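import Mathlib
import Cfsg.Agent.OrthPrimeClasses.Blocks
import Cfsg.Agent.AutOrthField.FormClass
import Cfsg.Agent.Classical.Orth.OrderBinary

/-!
Isometries of quadratic spaces in characteristic two with prescribed order: the two families of
tori, and the calculus of orthogonal sums.
-/

set_option autoImplicit false
set_option linter.unusedSectionVars false

namespace CfsgLib.Spec83

open Module CfsgLib.OrthPrimeClasses CfsgLib.Classical.Orth
open scoped _root_.Classical

variable {F : Type*} [Field F]

/-- An isometry of order `m` whose fixed space has dimension of parity `s`. -/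
def Has {V : Type*} [AddCommGroup V] [Module F V] (Q : V → F) (m s : ℕ) : Prop :=
  ∃ f : Module.End F V, (∀ v, Q (f v) = Q v) ∧ orderOf f = m ∧
    finrank F (LinearMap.ker (f - 1)) % 2 = s % 2

/-- As `Has`, with a vector on which the sum of all powers does not vanish. -/
def HasV {V : Type*} [AddCommGroup V] [Module F V] (Q : V → F) (m s : ℕ) : Prop :=
  ∃ (f : Module.End F V) (v : V), (∀ v, Q (f v) = Q v) ∧ orderOf f = m ∧
    finrank F (LinearMap.ker (f - 1)) % 2 = s % 2 ∧ (∑ i ∈ Finset.range m, f ^ i) v ≠ 0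

variable {V W : Type*} [AddCommGroup V] [Module F V] [AddCommGroup W] [Module F W]

theorem HasV.has {Q : V → F} {m s : ℕ} (h : HasV Q m s) : Has Q m s := by
  obtain ⟨f, -, h1, h2, h3, -⟩ := h
  exact ⟨f, h1, h2, h3⟩

theorem ker_conj_sub_one (e : V ≃ₗ[F] W) (f : Module.End F V) :
    LinearMap.ker (e.conj f - 1) = (LinearMap.ker (f - 1)).map (e : V →ₗ[F] W) := by
  ext x
  simp [Submodule.mem_map_equiv, sub_eq_zero, LinearEquiv.conj_apply_apply,
    e.eq_symm_apply.symm]

theorem Has.map {Q : V → F} {R : W → F} {m s : ℕ} (h : Has Q m s) (hs : Similar Q R) :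
    Has R m s := by
  obtain ⟨f, hf, ho, hk⟩ := h
  obtain ⟨e, he⟩ := hs
  refine ⟨e.conj f, fun w => ?_, ?_, ?_⟩
  · rw [LinearEquiv.conj_apply_apply, he, hf, ← he, e.apply_symm_apply]
  · rw [← ho]
    exact MulEquiv.orderOf_eq (e.conjAlgEquiv F).toMulEquiv f
  · rw [ker_conj_sub_one, LinearEquiv.finrank_map_eq, hk]

theorem HasV.map {Q : V → F} {R : W → F} {m s : ℕ} (h : HasV Q m s) (hs : Similar Q R) :
    HasV R m s := by
  obtain ⟨f, v, hf, ho, hk, hv⟩ := h
  obtain ⟨e, he⟩ := hs
  refine ⟨e.conj f, e v, fun w => ?_, ?_, ?_, ?_⟩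
  · rw [LinearEquiv.conj_apply_apply, he, hf, ← he, e.apply_symm_apply]
  · rw [← ho]
    exact MulEquiv.orderOf_eq (e.conjAlgEquiv F).toMulEquiv f
  · rw [ker_conj_sub_one, LinearEquiv.finrank_map_eq, hk]
  · have h1 : ∑ i ∈ Finset.range m, e.conj f ^ i = e.conj (∑ i ∈ Finset.range m, f ^ i) := by
      rw [map_sum]
      refine Finset.sum_congr rfl fun i _ => ?_
      exact (map_pow (e.conjAlgEquiv F) f i).symm
    rw [h1, LinearEquiv.conj_apply_apply, e.symm_apply_apply]
    exact e.map_ne_zero_iff.2 hv

theorem orderOf_prodMap (f : Module.End F V) (g : Module.End F W) :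
    orderOf (f.prodMap g : Module.End F (V × W)) = Nat.lcm (orderOf f) (orderOf g) := by
  rw [← Prod.orderOf (x := (f, g))]
  refine orderOf_injective (LinearMap.prodMapRingHom F V W).toMonoidHom ?_ (f, g)
  intro a b h
  refine Prod.ext (LinearMap.ext fun v => ?_) (LinearMap.ext fun w => ?_)
  · exact congrArg Prod.fst (LinearMap.congr_fun h (v, 0))
  · exact congrArg Prod.snd (LinearMap.congr_fun h (0, w))

theorem finrank_ker_prodMap [FiniteDimensional F V] [FiniteDimensional F W] (f : Module.End F V)
    (g : Module.End F W) :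
    finrank F (LinearMap.ker (f.prodMap g - 1 : Module.End F (V × W))) =
      finrank F (LinearMap.ker (f - 1)) + finrank F (LinearMap.ker (g - 1)) := by
  have h : (f.prodMap g - 1 : Module.End F (V × W)) = (f - 1).prodMap (g - 1) :=
    LinearMap.ext fun v => rfl
  rw [h, LinearMap.ker_prodMap]
  have h2 : Submodule.prod (LinearMap.ker (f - 1)) (LinearMap.ker (g - 1)) =
      LinearMap.range ((LinearMap.ker (f - 1)).subtype.prodMap (LinearMap.ker (g - 1)).subtype) := by
    rw [LinearMap.range_prodMap, Submodule.range_subtype, Submodule.range_subtype]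
  rw [h2, LinearMap.finrank_range_of_inj, finrank_prod]
  intro a b hab
  exact Prod.ext (Subtype.ext (congrArg Prod.fst hab :)) (Subtype.ext (congrArg Prod.snd hab :))

variable [FiniteDimensional F V] [FiniteDimensional F W]

theorem Has.sum {Q : V → F} {R : W → F} {m n s t : ℕ} (h : Has Q m s) (h' : Has R n t) :
    Has (osum Q R) (Nat.lcm m n) (s + t) := by
  obtain ⟨f, hf, ho, hk⟩ := h
  obtain ⟨g, hg, ho', hk'⟩ := h'
  refine ⟨f.prodMap g, fun v => by simp [osum, hf, hg], by rw [orderOf_prodMap, ho, ho'], ?_⟩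
  rw [finrank_ker_prodMap, Nat.add_mod, hk, hk', ← Nat.add_mod]

theorem Has.sumV [CharP F 2] {Q : V → F} {R : W → F} {m n c s t : ℕ} (h : Has Q m s)
    (h' : HasV R n t) (hc : Nat.lcm m n = n * c) (hodd : Odd c) :
    HasV (osum Q R) (n * c) (s + t) := by
  obtain ⟨f, hf, ho, hk⟩ := h
  obtain ⟨g, v, hg, ho', hk', hv⟩ := h'
  refine ⟨f.prodMap g, (0, v), fun v => by simp [osum, hf, hg],
    by rw [orderOf_prodMap, ho, ho', hc], ?_, ?_⟩
  · rw [finrank_ker_prodMap, Nat.add_mod, hk, hk', ← Nat.add_mod]
  · have hgn : g ^ n = 1 := ho' ▸ pow_orderOf_eq_one g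
    have hsum : ∀ j : ℕ, ∑ i ∈ Finset.range (n * j), g ^ i = j • ∑ i ∈ Finset.range n, g ^ i := by
      intro j
      induction j with
      | zero => simp
      | succ j ih =>
        rw [Nat.mul_succ, Finset.sum_range_add, ih, succ_nsmul]
        refine congrArg _ (Finset.sum_congr rfl fun i _ => ?_)
        rw [pow_add, pow_mul, hgn, one_pow, one_mul]
    have h1 : ∀ i, ((f.prodMap g) ^ i) (0, v) = (0, (g ^ i) v) := fun i => by
      induction i with
      | zero => simp
      | succ i ih => rw [pow_succ', Module.End.mul_apply, ih, pow_succ']; simp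
    intro h
    apply hv
    rw [LinearMap.sum_apply, Finset.sum_congr rfl fun i _ => h1 i] at h
    have h2 := congrArg Prod.snd h
    rw [Prod.snd_sum, ← LinearMap.sum_apply, hsum, LinearMap.smul_apply,
      ← Nat.cast_smul_eq_nsmul F] at h2
    obtain ⟨d, rfl⟩ := hodd
    simpa [CharTwo.two_eq_zero] using h2

theorem hasV_id {Q : V → F} [Nontrivial V] {s : ℕ} (hs : finrank F V % 2 = s % 2) :
    HasV Q 1 s := by
  obtain ⟨v, hv⟩ := exists_ne (0 : V)
  refine ⟨1, v, fun v => rfl, orderOf_one, ?_, by simpa using hv⟩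
  rw [sub_self, LinearMap.ker_zero, finrank_top, hs]

section Similarity

variable [CharP F 2]

theorem neg_eq_self (Q : V → F) : (fun v => -Q v) = Q := funext fun v => CharTwo.neg_eq (Q v)

theorem absorb_right (r k : ℕ) (c : F) :
    Similar (osum (osum (hyp r) (binForm 1 c)) (hyp k)) (osum (hyp (r + k)) (binForm 1 c)) :=
  (((similar_assoc _ _ _).trans ((similar_comm _ _).sum_right _)).trans
    (similar_assoc _ _ _).symm).trans ((similar_hyp_add r k).sum_left _)

theorem absorb_left (r k : ℕ) (c : F) :
    Similar (osum (hyp k) (osum (hyp r) (binForm 1 c))) (osum (hyp (k + r)) (binForm 1 c)) :=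
  (similar_assoc _ _ _).symm.trans ((similar_hyp_add k r).sum_left _)

theorem similar_binForm_zero : Similar (binForm (1 : F) 0) (hyp 1) :=
  Similar.of_equiv
    { toFun := fun z => (fun _ => z 0, fun _ => z 0 + z 1)
      map_add' := fun a b => Prod.ext rfl (funext fun _ => by simp; ring)
      map_smul' := fun t a => Prod.ext rfl (funext fun _ => by simp; ring)
      invFun := fun p => ![p.1 0, p.2 0 - p.1 0]
      left_inv := fun z => funext fun i => by fin_cases i <;> simp
      right_inv := fun p => Prod.ext (funext fun i => by simp [Subsingleton.elim i 0])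
        (funext fun i => by simp [Subsingleton.elim i 0]) }
    fun z => by simp [hyp, binForm, dotProduct]; ring

theorem similar_plane_plane [Fintype F] {c : F} (hc : ∀ t : F, t ^ 2 + t + c ≠ 0) :
    Similar (osum (binForm 1 c) (binForm 1 c)) (hyp 2) := by
  have hac : ∀ z₁ z₂ : F, z₁ ^ 2 + 1 * z₁ * z₂ + c * z₂ ^ 2 = 0 → z₁ = 0 ∧ z₂ = 0 := by
    intro z₁ z₂ h
    rcases eq_or_ne z₂ 0 with rfl | h2
    · exact ⟨pow_eq_zero_iff two_ne_zero |>.1 (by linear_combination h), rfl⟩
    · refine absurd ?_ (hc (z₁ / z₂))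
      field_simp
      linear_combination h
  have := exists_double_of_finrank (isNondegQF_binForm 1 c hac) (n := 2) (by simp)
  rwa [neg_eq_self] at this

end Similarity

section Tori

variable [Fintype F] [CharP F 2]


theorem orderOf_lmul {K : Type*} [Field K] [Algebra F K] (l : K) :
    orderOf (Algebra.lmul F K l) = orderOf l :=
  orderOf_injective (Algebra.lmul F K).toRingHom.toMonoidHom Algebra.lmul_injective l

theorem exists_orderOf_dvd {K : Type*} [Field K] [Fintype K] {n : ℕ}
    (h : n ∣ Fintype.card K - 1) : ∃ l : K, l ≠ 0 ∧ orderOf l = n := by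
  obtain ⟨u, hu⟩ := IsCyclic.exists_ofOrder_eq_natCard (α := Kˣ)
  rw [Nat.card_units, Nat.card_eq_fintype_card] at hu
  have hpos : orderOf u ≠ 0 := (orderOf_pos u).ne'
  rw [← hu] at h
  refine ⟨((u ^ (orderOf u / n) : Kˣ) : K), Units.ne_zero _, ?_⟩
  rw [orderOf_units, orderOf_pow_orderOf_div hpos h]

/-- The torus of order `q ^ e - 1` on `hyp e`. -/
theorem has_plus_torus (e : ℕ) [NeZero e] :
    Has (hyp (F := F) e) (Fintype.card F ^ e - 1) 0 := by
  set K := FiniteField.Extension F 2 e
  letI : Fintype K := Fintype.ofFinite K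
  have hcK : Fintype.card K = Fintype.card F ^ e := by
    rw [← Nat.card_eq_fintype_card, FiniteField.natCard_extension, Nat.card_eq_fintype_card]
  obtain ⟨l, hl0, hl⟩ := exists_orderOf_dvd (K := K) (n := Fintype.card F ^ e - 1) (by rw [hcK])
  let b : Basis (Fin e) F K := finBasisOfFinrankEq F K (FiniteField.finrank_extension F 2 e)
  let T : K →ₗ[F] (Fin e → F) :=
    LinearMap.pi fun i => (Algebra.trace F K).comp (Algebra.lmul F K (b i))
  have hT : Function.Bijective T := by
    have hinj : Function.Injective T := by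
      rw [injective_iff_map_eq_zero]
      intro y hy
      refine (traceForm_nondegenerate F K).1 y fun z => ?_
      have h1 : Algebra.traceForm F K y = 0 := b.ext fun i => by
        have := congrFun hy i
        simpa [T, Algebra.traceForm_apply, mul_comm] using this
      exact LinearMap.congr_fun h1 z
    exact ⟨hinj, (LinearMap.injective_iff_surjective_of_finrank_eq_finrank
      (by rw [finrank_fintype_fun_eq_card, Fintype.card_fin, FiniteField.finrank_extension])).1 hinj⟩
  let E : (K × K) ≃ₗ[F] (Fin e → F) × (Fin e → F) :=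
    b.equivFun.prodCongr (LinearEquiv.ofBijective T hT)
  let Q : K × K → F := fun p => Algebra.trace F K (p.1 * p.2)
  have hsim : Similar Q (hyp (F := F) e) := Similar.of_equiv E fun p => by
    obtain ⟨x, y⟩ := p
    show dotProduct (b.equivFun x) (T y) = Algebra.trace F K (x * y)
    conv_rhs => rw [← b.sum_equivFun x, Finset.sum_mul, map_sum]
    refine Finset.sum_congr rfl fun i _ => ?_
    simp [T, smul_mul_assoc]
  refine Has.map ⟨(Algebra.lmul F K l).prodMap (Algebra.lmul F K l⁻¹), fun p => ?_, ?_, ?_⟩ hsim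
  · show Algebra.trace F K (l * p.1 * (l⁻¹ * p.2)) = _
    rw [mul_mul_mul_comm, mul_inv_cancel₀ hl0, one_mul]
  · have hinv : orderOf l⁻¹ = orderOf l := by
      refine Nat.dvd_antisymm ?_ ?_ <;> refine orderOf_dvd_of_pow_eq_one ?_
      · rw [inv_pow, pow_orderOf_eq_one, inv_one]
      · rw [← inv_inv l, inv_pow, inv_inv, pow_orderOf_eq_one, inv_one]
    rw [orderOf_prodMap, orderOf_lmul, orderOf_lmul, hinv, Nat.lcm_self, hl]
  · rw [finrank_ker_prodMap]
    by_cases h : l = 1
    · subst h
      rw [inv_one]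
      omega
    · have hb : ∀ m : K, m ≠ 1 → LinearMap.ker (Algebra.lmul F K m - 1) = ⊥ := fun m hm => by
        refine (Submodule.eq_bot_iff _).2 fun x hx => ?_
        have h1 : (m - 1) * x = 0 := by
          rw [sub_mul, one_mul]
          simpa using hx
        exact (mul_eq_zero.1 h1).resolve_left (sub_ne_zero.2 hm)
      rw [hb l h, hb l⁻¹ (fun e => h (inv_eq_one.1 e)), finrank_bot]

/-- The number of singular vectors of `hyp e`. -/
theorem card_hyp_eq_zero (e : ℕ) [NeZero e] :
    Nat.card {v : (Fin e → F) × (Fin e → F) // hyp e v = 0} =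
      Fintype.card F ^ e + (Fintype.card F ^ e - 1) * Fintype.card F ^ (e - 1) := by
  set q := Fintype.card F
  have hfib : ∀ x : Fin e → F, x ≠ 0 →
      Nat.card {y : Fin e → F // dotProduct x y = 0} = q ^ (e - 1) := by
    intro x hx
    let φ : (Fin e → F) →ₗ[F] F := ∑ i, x i • LinearMap.proj i
    have hφ : ∀ y, φ y = dotProduct x y := fun y => by simp [φ, dotProduct]
    have hker : finrank F (LinearMap.ker φ) = e - 1 := by
      have hne : φ ≠ 0 := fun h => by
        obtain ⟨j, hj⟩ := Function.ne_iff.1 hx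
        have := LinearMap.congr_fun h (Pi.single j 1)
        rw [hφ] at this
        simp at this
        exact hj this
      have := Module.Dual.finrank_ker_add_one_of_ne_zero hne
      rw [finrank_fintype_fun_eq_card, Fintype.card_fin] at this
      omega
    rw [Nat.card_congr (Equiv.subtypeEquivRight fun y => by rw [← hφ, ← LinearMap.mem_ker]),
      Module.natCard_eq_pow_finrank (K := F), hker, Nat.card_eq_fintype_card]
  let E : {v : (Fin e → F) × (Fin e → F) // hyp e v = 0} ≃
      Σ x : Fin e → F, {y : Fin e → F // dotProduct x y = 0} :=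
    (Equiv.subtypeProdEquivSigmaSubtype fun x y => dotProduct x y = 0)
  rw [Nat.card_congr E, Nat.card_sigma, ← Finset.add_sum_erase _ _ (Finset.mem_univ (0 : Fin e → F)),
    Finset.sum_congr rfl (fun x hx => hfib x (Finset.ne_of_mem_erase hx)), Finset.sum_const,
    Finset.card_erase_of_mem (Finset.mem_univ _), Finset.card_univ, smul_eq_mul]
  congr 1
  · rw [Nat.card_congr (Equiv.subtypeUnivEquiv fun y => zero_dotProduct y)]
    simp [q]
  · simp [q]

end Tori

end CfsgLib.Spec83
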