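import Mathlib
import Cfsg.Agent.Spec83.O8Tori
import Cfsg.Agent.Eq.Def_Classical

/-!
The anisotropic torus of order `q ^ e + 1` in the orthogonal group of minus type in dimension `2 e`,
`q` even: its free action on the singular vectors excludes the hyperbolic type.
-/

set_option autoImplicit false
set_option linter.unusedSectionVars false

namespace CfsgLib.Spec83

open Module CfsgLib.OrthPrimeClasses CfsgLib.Classical.Orth CfsgLib.AutOrthField
open scoped _root_.Classical

variable {F : Type*} [Field F] {V : Type*} [AddCommGroup V] [Module F V] [FiniteDimensional F V]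

/-- A hyperbolic basis gives a similarity with `hyp e`. -/
theorem similar_hyp_of_basis (Q : QuadraticForm F V) {m : ℕ} (b : Basis (Fin m ⊕ Fin m) F V)
    (hb : ∀ i j, (Q (b (.inl i)) = 0 ∧ Q (b (.inr i)) = 0 ∧
        QuadraticMap.polar Q (b (.inl i)) (b (.inl j)) = 0 ∧
        QuadraticMap.polar Q (b (.inr i)) (b (.inr j)) = 0 ∧
        QuadraticMap.polar Q (b (.inl i)) (b (.inr j)) = if i = j then 1 else 0)) :
    Similar (fun v => Q v) (hyp (F := F) m) := by
  have hQ := isNondegQF_quadFormPlus (F := F) m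
  set Q' := LinAlg.Witt.quadOfFun (Cfsg.quadFormPlus m F) hQ.smul hQ.polar_bilinear with hQ'
  set p := Pi.basisFun F (Fin m ⊕ Fin m) with hp
  have hpol : ∀ u v : Fin m ⊕ Fin m → F, QuadraticMap.polar Q' u v =
      ∑ i, (u (.inl i) * v (.inr i) + u (.inr i) * v (.inl i)) := by
    intro u v
    show QuadraticMap.polar (Cfsg.quadFormPlus m F) u v = _
    simp only [QuadraticMap.polar, Cfsg.quadFormPlus, Pi.add_apply, add_mul, mul_add,
      Finset.sum_add_distrib, mul_comm (v (.inl _))]
    ring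
  obtain ⟨g, hg⟩ := exists_isometry_of_bases Q Q' b p
    (fun i => by
      rcases i with i | i
      · rw [(hb i i).1]; simp [hQ', hp, Cfsg.quadFormPlus, Pi.single_apply]
      · rw [(hb i i).2.1]; simp [hQ', hp, Cfsg.quadFormPlus, Pi.single_apply])
    (fun i j => by
      rw [hpol]
      rcases i with i | i <;> rcases j with j | j
      · rw [(hb i j).2.2.1]; simp [hp, Pi.single_apply]
      · rw [(hb i j).2.2.2.2]; simp [hp, Pi.single_apply, eq_comm]
      · rw [QuadraticMap.polar_comm, (hb j i).2.2.2.2]; simp [hp, Pi.single_apply, eq_comm]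
      · rw [(hb i j).2.2.2.1]; simp [hp, Pi.single_apply])
  exact (Similar.of_equiv (R := Cfsg.quadFormPlus m F) g hg).trans (similar_plus m).symm

variable [Fintype F]

/-- A normal basis of minus type gives a similarity with `hyp r ⊥` an anisotropic plane. -/
theorem similar_minus_of_family (Q : QuadraticForm F V) {r : ℕ} {c : F}
    (hc : ∀ z₁ z₂ : F, z₁ ^ 2 + 1 * z₁ * z₂ + c * z₂ ^ 2 = 0 → z₁ = 0 ∧ z₂ = 0)
    {e f : Fin r → V} {v w : V}
    (hli : LinearIndependent F (Sum.elim (Sum.elim e f) ![v, w]))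
    (hsp : Submodule.span F (Set.range (Sum.elim (Sum.elim e f) ![v, w])) = ⊤)
    (hq : ∀ i, Q (e i) = 0 ∧ Q (f i) = 0)
    (hef : ∀ i j, QuadraticMap.polar Q (e i) (f j) = if i = j then 1 else 0)
    (hee : ∀ i j, QuadraticMap.polar Q (e i) (e j) = 0 ∧ QuadraticMap.polar Q (f i) (f j) = 0)
    (hew : ∀ i, QuadraticMap.polar Q (e i) v = 0 ∧ QuadraticMap.polar Q (e i) w = 0 ∧
      QuadraticMap.polar Q (f i) v = 0 ∧ QuadraticMap.polar Q (f i) w = 0)
    (hv : Q v = 1) (hvw : QuadraticMap.polar Q v w = 1) (hw : Q w = c) :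
    Similar (fun v => Q v) (osum (hyp (F := F) r) (binForm 1 c)) := by
  have hQ := isNondegQF_quadFormMinus (F := F) r 1 c hc
  set Q' := LinAlg.Witt.quadOfFun (Cfsg.quadFormMinus r F 1 c) hQ.smul hQ.polar_bilinear with hQ'
  let e₂ : Fin r → (Fin r ⊕ Fin r) ⊕ Fin 2 → F := fun i => Pi.single (.inl (.inl i)) 1
  let f₂ : Fin r → (Fin r ⊕ Fin r) ⊕ Fin 2 → F := fun i => Pi.single (.inl (.inr i)) 1
  let v₂ : (Fin r ⊕ Fin r) ⊕ Fin 2 → F := Pi.single (.inr 0) 1
  let w₂ : (Fin r ⊕ Fin r) ⊕ Fin 2 → F := Pi.single (.inr 1) 1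
  have hp : ⇑(Pi.basisFun F ((Fin r ⊕ Fin r) ⊕ Fin 2)) = Sum.elim (Sum.elim e₂ f₂) ![v₂, w₂] := by
    funext i
    rcases i with (i | i) | i
    · simp [e₂]
    · simp [f₂]
    · fin_cases i <;> simp [v₂, w₂]
  have hpol : ∀ u x : (Fin r ⊕ Fin r) ⊕ Fin 2 → F, QuadraticMap.polar Q' u x =
      (∑ i, (u (.inl (.inl i)) * x (.inl (.inr i)) + u (.inl (.inr i)) * x (.inl (.inl i)))) +
      (u (.inr 0) * (2 * x (.inr 0) + x (.inr 1)) + u (.inr 1) * (x (.inr 0) + 2 * c * x (.inr 1))) := by
    intro u x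
    show QuadraticMap.polar (Cfsg.quadFormMinus r F 1 c) u x = _
    simp only [QuadraticMap.polar, Cfsg.quadFormMinus, Pi.add_apply, add_mul, mul_add,
      Finset.sum_add_distrib, mul_comm (x (.inl (.inl _)))]
    ring
  obtain ⟨g, hg⟩ := exists_isometry_of_bases Q Q' (Basis.mk hli hsp.ge) (Pi.basisFun F _)
    (fun i => by
      rw [hp, Basis.coe_mk]
      rcases i with (i | i) | i
      · simp [hQ', e₂, Cfsg.quadFormMinus, Pi.single_apply, (hq i).1]
      · simp [hQ', f₂, Cfsg.quadFormMinus, Pi.single_apply, (hq i).2]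
      · fin_cases i <;> simp [hQ', v₂, w₂, Cfsg.quadFormMinus, Pi.single_apply, hv, hw])
    (fun i j => by
      rw [hp, Basis.coe_mk]
      refine polar_normal_eq (QuadraticMap.polar Q) (QuadraticMap.polar Q') e f v w e₂ f₂ v₂ w₂
        (QuadraticMap.polar_comm Q) (QuadraticMap.polar_comm Q') hef hee hew
        (fun i j => by simp [hpol, e₂, f₂, Pi.single_apply, eq_comm])
        (fun i j => ⟨by simp [hpol, e₂, Pi.single_apply], by simp [hpol, f₂, Pi.single_apply]⟩)
        (fun i => ⟨by simp [hpol, e₂, v₂, Pi.single_apply], by simp [hpol, e₂, w₂, Pi.single_apply],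
          by simp [hpol, f₂, v₂, Pi.single_apply], by simp [hpol, f₂, w₂, Pi.single_apply]⟩)
        ?_ ?_ ?_ i j
      · simp [hpol, v₂, QuadraticMap.polar_self, hv]
      · simp [hpol, v₂, w₂, hvw]
      · simp [hpol, w₂, QuadraticMap.polar_self, hw])
  exact (Similar.of_equiv (R := Cfsg.quadFormMinus r F 1 c) g hg).trans (similar_minus r 1 c).symm

theorem has_minus_torus_aux [CharP F 2] {K : Type*} [Field K] [Fintype K] [Algebra F K]
    (r e : ℕ) (he : e = r + 1) (hdim : finrank F K = 2 * e)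
    (hcK : Fintype.card K = Fintype.card F ^ (2 * e)) {c : F}
    (hc : ∀ t : F, t ^ 2 + t + c ≠ 0) :
    Has (osum (hyp (F := F) r) (binForm 1 c)) (Fintype.card F ^ e + 1) 0 := by
  set q := Fintype.card F with hq
  have : CharP K 2 := charP_of_injective_algebraMap (algebraMap F K).injective 2
  have : FiniteDimensional F K := Module.Finite.of_finite
  have hq2 : 1 < q := Fintype.one_lt_card
  set φ : Gal(K/F) := FiniteField.frobeniusAlgEquivOfAlgebraic F K ^ e with hφdef
  have hφ : ∀ x : K, φ x = x ^ (q ^ e) := fun x => by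
    rw [hφdef, AlgEquiv.coe_pow, FiniteField.coe_frobeniusAlgEquivOfAlgebraic_iterate]
  have hφφ : ∀ x : K, φ (φ x) = x := fun x => by
    rw [hφ, hφ, ← pow_mul, ← pow_add, ← two_mul, ← hcK, FiniteField.pow_card]
  obtain ⟨c₀, hc₀⟩ : ∃ c₀ : K, c₀ + φ c₀ = 1 := by
    obtain ⟨d, hd⟩ : ∃ d : K, φ d ≠ d := by
      by_contra h
      push Not at h
      obtain ⟨u, hu⟩ := IsCyclic.exists_ofOrder_eq_natCard (α := Kˣ)
      rw [Nat.card_units, Nat.card_eq_fintype_card, hcK] at hu
      have h1 : (u : K) ^ (q ^ e - 1) = 1 := by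
        refine mul_right_cancel₀ u.ne_zero ?_
        rw [← pow_succ, Nat.sub_add_cancel (Nat.one_le_pow _ _ (by omega)), ← hφ, h, one_mul]
      have h2 : u ^ (q ^ e - 1) = 1 := Units.ext (by simpa using h1)
      have h3 := Nat.le_of_dvd (by
        have : 1 < q ^ e := Nat.one_lt_pow (by omega) hq2
        omega) (orderOf_dvd_of_pow_eq_one h2)
      have h4 : q ^ e < q ^ (2 * e) := Nat.pow_lt_pow_right hq2 (by omega)
      have h5 : 1 ≤ q ^ e := Nat.one_le_pow _ _ (by omega)
      omega
    have hne : d + φ d ≠ 0 := fun h => hd (by linear_combination h - d * CharTwo.two_eq_zero (R := K))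
    refine ⟨d / (d + φ d), ?_⟩
    rw [map_div₀, map_add, hφφ, add_comm (φ d) d, ← add_div, div_self hne]
  let C : LinearMap.BilinMap F K F :=
    LinearMap.mk₂ F (fun x y => Algebra.trace F K (c₀ * φ x * y))
      (fun x x' y => by rw [map_add, mul_add, add_mul, map_add])
      (fun t x y => by rw [map_smul, mul_smul_comm, smul_mul_assoc, map_smul])
      (fun x y y' => by rw [mul_add, map_add])
      (fun t x y => by rw [mul_smul_comm, map_smul])
  set Q : QuadraticForm F K := C.toQuadraticMap with hQdef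
  have hQ : ∀ x, Q x = Algebra.trace F K (c₀ * φ x * x) := fun x => rfl
  have htr : ∀ x, Algebra.trace F K (φ x) = Algebra.trace F K x := fun x =>
    Algebra.trace_eq_of_algEquiv φ x
  have hpol : ∀ x y, QuadraticMap.polar Q x y = Algebra.trace F K (φ x * y) := fun x y => by
    rw [hQdef, LinearMap.BilinMap.polar_toQuadraticMap]
    show Algebra.trace F K (c₀ * φ x * y) + Algebra.trace F K (c₀ * φ y * x) = _
    rw [← htr (c₀ * φ y * x), map_mul φ, map_mul φ, hφφ, ← map_add]
    congr 1
    linear_combination (φ x * y) * hc₀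
  have hker : ∀ x, (∀ y, QuadraticMap.polar Q x y = 0) → x = 0 := fun x h => by
    have h1 : φ x = 0 := (traceForm_nondegenerate F K).1 _ fun y => by
      rw [Algebra.traceForm_apply, ← hpol]; exact h y
    exact φ.injective (by rw [h1, map_zero])
  set n := q ^ e + 1 with hn
  obtain ⟨l, hl0, hl⟩ := exists_orderOf_dvd (K := K) (n := n) (by
    rw [hcK]; exact ⟨q ^ e - 1, by rw [hn, ← Nat.sq_sub_sq, one_pow, ← pow_mul, mul_comm]⟩)
  have hiso : ∀ m : K, m ^ n = 1 → ∀ x, Q (m * x) = Q x := fun m hm x => by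
    rw [hQ, hQ, map_mul φ, hφ m]
    congr 1
    rw [hn, pow_succ] at hm
    linear_combination (c₀ * φ x * x) * hm
  have hhas : Has (fun x => Q x) n 0 := by
    refine ⟨Algebra.lmul F K l, fun x => hiso l (hl ▸ pow_orderOf_eq_one l) x,
      by rw [orderOf_lmul, hl], ?_⟩
    by_cases h : l = 1
    · subst h
      rw [map_one, sub_self, LinearMap.ker_zero, finrank_top, hdim]
      omega
    · have hb : LinearMap.ker (Algebra.lmul F K l - 1) = ⊥ := by
        refine (Submodule.eq_bot_iff _).2 fun x hx => ?_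
        have h1 : (l - 1) * x = 0 := by
          rw [sub_mul, one_mul]
          simpa using hx
        exact (mul_eq_zero.1 h1).resolve_left (sub_ne_zero.2 h)
      rw [hb, finrank_bot]
  have hc' : ∀ z₁ z₂ : F, z₁ ^ 2 + 1 * z₁ * z₂ + c * z₂ ^ 2 = 0 → z₁ = 0 ∧ z₂ = 0 := by
    intro z₁ z₂ h
    rcases eq_or_ne z₂ 0 with rfl | h2
    · exact ⟨pow_eq_zero_iff two_ne_zero |>.1 (by linear_combination h), rfl⟩
    · refine absurd ?_ (hc (z₁ / z₂))
      field_simp
      linear_combination h
  rcases exists_normal_basis Q hker hdim hc with ⟨b, hb⟩ |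
    ⟨r', e', f', v, w, hr', hli, hsp, hqq, hef, hee, hew, hv, hvw, hw⟩
  · exfalso
    obtain ⟨E, hE⟩ := similar_hyp_of_basis Q b hb
    have : NeZero e := ⟨by omega⟩
    have hcard : Set.ncard {x : K | Q x = 0} = q ^ e + (q ^ e - 1) * q ^ (e - 1) := by
      rw [← Nat.card_coe_set_eq, hq, ← card_hyp_eq_zero e]
      exact Nat.card_congr (E.toEquiv.subtypeEquiv fun x => by
        show Q x = 0 ↔ hyp e (E x) = 0
        rw [hE])
    set u : Kˣ := Units.mk0 l hl0 with hu
    have huo : orderOf u = n := by rw [← orderOf_units, hu, Units.val_mk0, hl]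
    set T : Set Kˣ := {x | Q (x : K) = 0} with hT
    set U := Subgroup.zpowers u with hU
    have hstab : ∀ x ∈ T, ∀ g ∈ U, x * g ∈ T := by
      intro x hx g hg
      obtain ⟨k, rfl⟩ := (Submonoid.mem_powers_iff _ _).1 ((mem_powers_iff_mem_zpowers).2 hg)
      show Q ((x * u ^ k : Kˣ) : K) = 0
      rw [Units.val_mul, mul_comm, hiso _ ?_ _]
      · exact hx
      · rw [← Units.val_pow_eq_pow_val, ← pow_mul, mul_comm, pow_mul, ← huo, pow_orderOf_eq_one,
          one_pow, Units.val_one]
    have hpre : (QuotientGroup.mk : Kˣ → Kˣ ⧸ U) ⁻¹' ((QuotientGroup.mk : Kˣ → Kˣ ⧸ U) '' T) = T := by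
      refine Set.Subset.antisymm ?_ (Set.subset_preimage_image _ _)
      rintro y ⟨x, hx, hxy⟩
      rw [QuotientGroup.eq] at hxy
      have := hstab x hx _ hxy
      rwa [mul_inv_cancel_left] at this
    have hdvd : n ∣ T.ncard := by
      rw [← hpre, ← Nat.card_coe_set_eq,
        Nat.card_congr (QuotientGroup.preimageMkEquivSubgroupProdSet U _), Nat.card_prod, hU,
        Nat.card_zpowers, huo]
      exact dvd_mul_right _ _
    have hz : {x : K | Q x = 0} = insert 0 (Units.val '' T) := by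
      ext x
      constructor
      · intro hx
        rcases eq_or_ne x 0 with rfl | h0
        · exact Set.mem_insert _ _
        · exact Set.mem_insert_of_mem _ ⟨Units.mk0 x h0, hx, rfl⟩
      · rintro (rfl | ⟨y, hy, rfl⟩)
        · exact QuadraticMap.map_zero Q
        · exact hy
    have hnot : (0 : K) ∉ Units.val '' T := by
      rintro ⟨y, -, hy⟩
      exact y.ne_zero hy
    rw [hz, Set.ncard_insert_of_notMem hnot, Set.ncard_image_of_injective _ Units.val_injective]
      at hcard
    have hqe : 2 ≤ q ^ e := le_trans hq2 (Nat.le_self_pow (by omega) q)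
    have hT' : T.ncard = (q ^ e - 1) * (q ^ (e - 1) + 1) := by
      rw [mul_add, mul_one]; omega
    have hco : Nat.Coprime n (q ^ e - 1) := by
      obtain ⟨d, -, hd⟩ := FiniteField.card F 2
      have hev : Even (q ^ e) := Nat.even_pow.2 ⟨by rw [hq, hd]; exact Nat.even_pow.2 ⟨even_two, d.ne_zero⟩, by omega⟩
      have h2 : Nat.gcd n (q ^ e - 1) ∣ 2 := by
        have := Nat.dvd_sub (Nat.gcd_dvd_left n (q ^ e - 1)) (Nat.gcd_dvd_right n (q ^ e - 1))
        rwa [show n - (q ^ e - 1) = 2 by omega] at this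
      rcases (Nat.dvd_prime Nat.prime_two).1 h2 with h | h
      · exact h
      · exfalso
        have h' : 2 ∣ n := h ▸ Nat.gcd_dvd_left n _
        obtain ⟨i, hi⟩ := hev.two_dvd
        obtain ⟨j, hj⟩ := h'
        omega
    rw [hT'] at hdvd
    have hle := Nat.le_of_dvd (Nat.succ_pos _) (hco.dvd_of_dvd_mul_left hdvd)
    have hlt : q ^ (e - 1) < q ^ e := Nat.pow_lt_pow_right hq2 (by omega)
    omega
  · obtain rfl : r' = r := by omega
    exact hhas.map (similar_minus_of_family Q hc' hli hsp hqq hef hee hew hv hvw hw)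
/-- The torus of order `q ^ (r + 1) + 1` on `hyp r ⊥` an anisotropic plane. -/
theorem has_minus_torus [CharP F 2] (r : ℕ) {c : F} (hc : ∀ t : F, t ^ 2 + t + c ≠ 0) :
    Has (osum (hyp (F := F) r) (binForm 1 c)) (Fintype.card F ^ (r + 1) + 1) 0 := by
  have : NeZero (2 * (r + 1)) := ⟨by omega⟩
  let _ : Fintype (FiniteField.Extension F 2 (2 * (r + 1))) := Fintype.ofFinite _
  refine has_minus_torus_aux (K := FiniteField.Extension F 2 (2 * (r + 1))) r (r + 1) rfl
    (FiniteField.finrank_extension F 2 (2 * (r + 1))) ?_ hc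
  rw [← Nat.card_eq_fintype_card, FiniteField.natCard_extension, Nat.card_eq_fintype_card]

end CfsgLib.Spec83
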