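import Mathlib
import Cfsg.Agent.Spec53.RootPowers

/-!
The exponents of the maximal cyclic subgroups of `Sp(8, q)`, `q` even, from the orbits of the
`q`-th power map on the values `t + 1/t` at the eigenvalues.
-/

set_option autoImplicit false

namespace CfsgLib.Spec83

open Polynomial

/-- The maximal element orders of `Sp(8, q)`, `q` even. -/
def Sp8Target (q n : ℕ) : Prop :=
  n = q ^ 4 + 1 ∨ n = q ^ 4 - 1 ∨ n = (q ^ 3 + 1) * (q - 1) ∨ n = (q ^ 3 - 1) * (q + 1) ∨
    n = 2 * (q ^ 3 + 1) ∨ n = 2 * (q ^ 3 - 1) ∨ n = 2 * ((q ^ 2 + 1) * (q + 1)) ∨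
    n = 2 * ((q ^ 2 + 1) * (q - 1)) ∨ n = 4 * (q ^ 2 + 1) ∨ n = 4 * (q ^ 2 - 1) ∨
    n = 8 * (q + 1) ∨ n = 8 * (q - 1)

/-- The divisors of the maximal orders. -/
def sp8Spec (q : ℕ) : Set ℕ := {d | ∃ n, Sp8Target q n ∧ d ∣ n}

section

variable {L : Type*} [Field L]

/-- `y` is the trace of an element of exponent `N` of the multiplicative group. -/
def Tor (N : ℕ) (y : L) : Prop := ∃ l : L, l ≠ 0 ∧ y = l + l⁻¹ ∧ l ^ N = 1

theorem Tor.mono {N M : ℕ} {y : L} (h : Tor N y) (hd : N ∣ M) : Tor M y := by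
  obtain ⟨l, h0, hy, hl⟩ := h
  obtain ⟨c, rfl⟩ := hd
  exact ⟨l, h0, hy, by rw [pow_mul, hl, one_pow]⟩

theorem Tor.map {N : ℕ} {y : L} (h : Tor N y) (σ : L →+* L) : Tor N (σ y) := by
  obtain ⟨l, h0, rfl, hl⟩ := h
  exact ⟨σ l, (map_ne_zero σ).2 h0, by rw [map_add, map_inv₀], by rw [← map_pow, hl, map_one]⟩

variable [IsAlgClosed L]

theorem exists_add_inv (y : L) : ∃ l : L, l ≠ 0 ∧ y = l + l⁻¹ := by
  obtain ⟨l, hl⟩ := IsAlgClosed.exists_root (X ^ 2 - C y * X + 1 : L[X])
    (by rw [show (X ^ 2 - C y * X + 1 : L[X]).degree = 2 by compute_degree!]; norm_num)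
  have hl' : l ^ 2 - y * l + 1 = 0 := by simpa using hl
  have h0 : l ≠ 0 := by rintro rfl; simp at hl'
  refine ⟨l, h0, mul_right_cancel₀ h0 ?_⟩
  rw [add_mul, inv_mul_cancel₀ h0]
  linear_combination -hl'

variable {σ : L →+* L} {q : ℕ}

theorem tor_of_fixed (hσ : ∀ x, σ x = x ^ q) (hq : 0 < q) {d : ℕ} {y : L}
    (h : (σ : L → L)^[d] y = y) : Tor (q ^ d - 1) y ∨ Tor (q ^ d + 1) y := by
  obtain ⟨l, h0, rfl⟩ := exists_add_inv y
  have hd : ∀ (d : ℕ) x, (σ : L → L)^[d] x = x ^ (q ^ d) := by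
    intro d
    induction d with
    | zero => simp
    | succ d ih => intro x; rw [Function.iterate_succ_apply', ih, hσ, ← pow_mul, pow_succ]
  rcases Spec53.pow_eq_one_of_add_inv_fixed (σ ^ d) (q ^ d) (pow_pos hq d)
    (fun x => by rw [RingHom.coe_pow, hd]) h0 (by rw [RingHom.coe_pow]; exact h) with e | e
  · exact Or.inl ⟨l, h0, rfl, e⟩
  · exact Or.inr ⟨l, h0, rfl, e⟩

end

theorem odd_sub_one_pow {q : ℕ} (hq : Even q) (h0 : 0 < q) (d : ℕ) (hd : d ≠ 0) :
    Odd (q ^ d - 1) := by
  obtain ⟨c, hc⟩ := (Nat.even_pow.2 ⟨hq, hd⟩ : Even (q ^ d))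
  have := pow_pos h0 d
  exact ⟨c - 1, by omega⟩

theorem odd_add_one_pow {q : ℕ} (hq : Even q) (d : ℕ) (hd : d ≠ 0) : Odd (q ^ d + 1) :=
  (Nat.even_pow.2 ⟨hq, hd⟩ : Even (q ^ d)).add_one

theorem sub_one_dvd_sq (q d : ℕ) : q ^ d - 1 ∣ q ^ (2 * d) - 1 :=
  ⟨q ^ d + 1, by rw [mul_comm (q ^ d - 1), ← Nat.sq_sub_sq, one_pow, ← pow_mul, mul_comm]⟩

theorem add_one_dvd_sq (q d : ℕ) : q ^ d + 1 ∣ q ^ (2 * d) - 1 :=
  ⟨q ^ d - 1, by rw [← Nat.sq_sub_sq, one_pow, ← pow_mul, mul_comm]⟩

theorem add_one_dvd_cube (q : ℕ) : q + 1 ∣ q ^ 3 + 1 := by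
  have h := Odd.nat_add_dvd_pow_add_pow q 1 (show Odd 3 by decide)
  rwa [one_pow] at h

theorem sub_one_dvd_cube (q : ℕ) : q - 1 ∣ q ^ 3 - 1 := by
  have h := Nat.sub_dvd_pow_sub_pow q 1 3
  rwa [one_pow] at h

section

variable {L : Type*} [Field L] [IsAlgClosed L] {σ : L →+* L} {q : ℕ}

/-- The exponent attached to a stable multiset of non-zero values. -/
theorem exists_exponent [DecidableEq L] (hσ : ∀ x, σ x = x ^ q) (hq : Even q) (hq0 : 0 < q) (Y : Multiset L)
    (hY : Y.map σ = Y) (k : ℕ) (hk : Multiset.card Y + k = 4) :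
    ∃ N b n, Sp8Target q n ∧ N * 2 ^ b ∣ n ∧ Odd N ∧ (∀ y ∈ Y, Tor N y) ∧
      (∀ y, Y.count y ≤ 2 ^ b) ∧ 2 * k ≤ 2 ^ b := by
  have hinj : Function.Injective σ := σ.injective
  have hmem : ∀ y ∈ Y, σ y ∈ Y := fun y hy => hY ▸ Multiset.mem_map_of_mem σ hy
  have hsub : ∀ O : Multiset L, O ≤ Y → O.map σ = O → (Y - O).map σ = Y - O := by
    intro O hO hOσ
    have h1 : (O + (Y - O)).map σ = O + (Y - O) := by
      rw [add_tsub_cancel_of_le hO]; exact hY
    rw [Multiset.map_add, hOσ] at h1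
    exact add_left_cancel h1
  have hone : ∀ z : L, (Multiset.map σ {z}) = {z} → σ z = z := fun z h => by simpa using h
  have hodd1 := odd_sub_one_pow hq hq0
  have hodd2 := odd_add_one_pow hq
  have h41 : q ^ 2 - 1 ∣ q ^ 4 - 1 := sub_one_dvd_sq q 2
  have h42 : q ^ 2 + 1 ∣ q ^ 4 - 1 := add_one_dvd_sq q 2
  have h21 : q - 1 ∣ q ^ 2 - 1 := by simpa using sub_one_dvd_sq q 1
  have h22 : q + 1 ∣ q ^ 2 - 1 := by simpa using add_one_dvd_sq q 1
  have hfix : ∀ z, σ z = z → Tor (q - 1) z ∨ Tor (q + 1) z := fun z hz => by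
    simpa using tor_of_fixed hσ hq0 (d := 1) (by simpa using hz)
  by_cases hB : ∃ y ∈ Y, σ (σ y) ≠ y
  · obtain ⟨y, hy, hy2⟩ := hB
    have h01 : y ≠ σ y := fun e => hy2 (by rw [← e, ← e])
    have h12 : σ y ≠ σ (σ y) := fun e => h01 (hinj e)
    by_cases h3 : σ (σ (σ y)) = y
    · set O : Multiset L := y ::ₘ σ y ::ₘ σ (σ y) ::ₘ 0 with hO
      have hOn : O.Nodup := by simp [hO, h01, h12, Ne.symm hy2]
      have hOle : O ≤ Y := (Multiset.le_iff_subset hOn).2 fun x hx => by
        simp [hO] at hx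
        rcases hx with rfl | rfl | rfl
        · exact hy
        · exact hmem _ hy
        · exact hmem _ (hmem _ hy)
      have hOσ : O.map σ = O := by
        simp only [hO, Multiset.map_cons, Multiset.map_zero, h3]
        rw [Multiset.cons_swap (σ (σ y)) y, Multiset.cons_swap (σ y) y]
      have hR := hsub O hOle hOσ
      have hYeq : Y = O + (Y - O) := (add_tsub_cancel_of_le hOle).symm
      have hOc : Multiset.card O = 3 := by simp [hO]
      have hRc : Multiset.card (Y - O) + k = 1 := by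
        have := congrArg Multiset.card hYeq
        rw [Multiset.card_add, hOc] at this
        omega
      have hty : ∀ N, Tor N y → ∀ x ∈ O, Tor N x := fun N hN x hx => by
        simp [hO] at hx
        rcases hx with rfl | rfl | rfl
        · exact hN
        · exact hN.map σ
        · exact (hN.map σ).map σ
      have h3' : (σ : L → L)^[3] y = y := h3
      rcases Nat.eq_zero_or_pos k with rfl | hkp
      · obtain ⟨z, hz⟩ := Multiset.card_eq_one.1 (show Multiset.card (Y - O) = 1 by omega)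
        rw [hz] at hR hYeq
        have hzf := hone z hR
        have hzn : z ∉ O := by
          intro h
          simp [hO] at h
          rcases h with rfl | rfl | rfl
          · exact hy2 (by rw [hzf, hzf])
          · exact h01 (hinj hzf).symm
          · exact h12 (hinj hzf).symm
        have hYn : Y.Nodup := by
          rw [hYeq, Multiset.nodup_add]
          exact ⟨hOn, Multiset.nodup_singleton z, by simp [Multiset.disjoint_singleton, hzn]⟩
        have fin : ∀ N n, Sp8Target q n → N ∣ n → Odd N → Tor N y → Tor N z →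
            ∃ N b n, Sp8Target q n ∧ N * 2 ^ b ∣ n ∧ Odd N ∧ (∀ y ∈ Y, Tor N y) ∧
              (∀ y, Y.count y ≤ 2 ^ b) ∧ 2 * 0 ≤ 2 ^ b := by
          intro N n hn hd hN h1 h2
          refine ⟨N, 0, n, hn, by simpa using hd, hN, fun x hx => ?_, fun x => ?_, Nat.zero_le _⟩
          · rw [hYeq] at hx
            rcases Multiset.mem_add.1 hx with hx | hx
            · exact hty N h1 x hx
            · rw [Multiset.mem_singleton.1 hx]; exact h2
          · rw [pow_zero]; exact Multiset.nodup_iff_count_le_one.1 hYn x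
        rcases tor_of_fixed hσ hq0 h3' with ha | ha <;> rcases hfix z hzf with hb | hb
        · exact fin _ _ (Or.inr (Or.inr (Or.inr (Or.inr (Or.inr (Or.inl rfl)))))) ⟨2, mul_comm _ _⟩
            (hodd1 3 (by norm_num)) ha (hb.mono (sub_one_dvd_cube q))
        · exact fin _ _ (Or.inr (Or.inr (Or.inr (Or.inl rfl)))) dvd_rfl
            ((hodd1 3 (by norm_num)).mul hq.add_one) (ha.mono (dvd_mul_right _ _))
            (hb.mono (dvd_mul_left _ _))
        · exact fin _ _ (Or.inr (Or.inr (Or.inl rfl))) dvd_rfl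
            ((hodd2 3 (by norm_num)).mul (by simpa using hodd1 1 one_ne_zero))
            (ha.mono (dvd_mul_right _ _)) (hb.mono (dvd_mul_left _ _))
        · exact fin _ _ (Or.inr (Or.inr (Or.inr (Or.inr (Or.inl rfl))))) ⟨2, mul_comm _ _⟩
            (hodd2 3 (by norm_num)) ha (hb.mono (add_one_dvd_cube q))
      · have hk1 : k = 1 := by omega
        subst hk1
        have hR0 : Y - O = 0 := Multiset.card_eq_zero.1 (by omega)
        rw [hR0, add_zero] at hYeq
        have fin : ∀ N, Sp8Target q (2 * N) → Odd N → Tor N y →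
            ∃ N b n, Sp8Target q n ∧ N * 2 ^ b ∣ n ∧ Odd N ∧ (∀ y ∈ Y, Tor N y) ∧
              (∀ y, Y.count y ≤ 2 ^ b) ∧ 2 * 1 ≤ 2 ^ b := by
          intro N hn hN h1
          refine ⟨N, 1, _, hn, by rw [pow_one, mul_comm], hN, fun x hx => hty N h1 x (hYeq ▸ hx),
            fun x => ?_, by norm_num⟩
          rw [hYeq]
          exact (Multiset.nodup_iff_count_le_one.1 hOn x).trans (by norm_num)
        rcases tor_of_fixed hσ hq0 h3' with ha | ha
        · exact fin _ (Or.inr (Or.inr (Or.inr (Or.inr (Or.inr (Or.inl rfl)))))) (hodd1 3 (by norm_num)) ha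
        · exact fin _ (Or.inr (Or.inr (Or.inr (Or.inr (Or.inl rfl))))) (hodd2 3 (by norm_num)) ha
    · set O : Multiset L := y ::ₘ σ y ::ₘ σ (σ y) ::ₘ σ (σ (σ y)) ::ₘ 0 with hO
      have h13 : σ y ≠ σ (σ (σ y)) := fun e => hy2 (hinj e).symm
      have h23 : σ (σ y) ≠ σ (σ (σ y)) := fun e => h12 (hinj e)
      have hOn : O.Nodup := by simp [hO, h01, h12, Ne.symm hy2, h13, h23, Ne.symm h3]
      have hOle : O ≤ Y := (Multiset.le_iff_subset hOn).2 fun x hx => by
        simp [hO] at hx
        rcases hx with rfl | rfl | rfl | rfl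
        · exact hy
        · exact hmem _ hy
        · exact hmem _ (hmem _ hy)
        · exact hmem _ (hmem _ (hmem _ hy))
      have hYO : O = Y := Multiset.eq_of_le_of_card_le hOle (by simp [hO]; omega)
      have hk0 : k = 0 := by
        rw [← hYO] at hk
        simp [hO] at hk
        omega
      subst hk0
      have h4 : (σ : L → L)^[4] y = y := by
        show σ (σ (σ (σ y))) = y
        have := hmem _ (hmem _ (hmem _ (hmem _ hy)))
        rw [← hYO, hO] at this
        simp at this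
        rcases this with e | e | e | e
        · exact e
        · exact absurd (hinj e) h3
        · exact absurd (hinj e).symm h13
        · exact absurd (hinj e).symm h23
      have hty : ∀ N, Tor N y → ∀ x ∈ Y, Tor N x := fun N hN x hx => by
        rw [← hYO, hO] at hx
        simp at hx
        rcases hx with rfl | rfl | rfl | rfl
        · exact hN
        · exact hN.map σ
        · exact (hN.map σ).map σ
        · exact ((hN.map σ).map σ).map σ
      rcases tor_of_fixed hσ hq0 h4 with ha | ha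
      · exact ⟨_, 0, _, Or.inr (Or.inl rfl), by simp, hodd1 4 (by norm_num), hty _ ha, fun x => by
          rw [pow_zero, ← hYO]; exact Multiset.nodup_iff_count_le_one.1 hOn x, Nat.zero_le _⟩
      · exact ⟨_, 0, _, Or.inl rfl, by simp, hodd2 4 (by norm_num), hty _ ha, fun x => by
          rw [pow_zero, ← hYO]; exact Multiset.nodup_iff_count_le_one.1 hOn x, Nat.zero_le _⟩
  push Not at hB
  have hcount : ∀ x, Y.count x ≤ Multiset.card Y := fun x => Multiset.count_le_card x Y
  have htwo : ∀ y ∈ Y, Tor (q ^ 2 - 1) y ∨ Tor (q ^ 2 + 1) y := fun y hy =>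
    tor_of_fixed hσ hq0 (d := 2) (hB y hy)
  by_cases hA : ∀ y ∈ Y, Tor (q ^ 2 - 1) y
  · rcases (show k ≤ 2 ∨ k = 3 ∨ k = 4 by omega) with h | rfl | rfl
    · exact ⟨_, 2, _, Or.inr (Or.inr (Or.inr (Or.inr (Or.inr (Or.inr (Or.inr (Or.inr (Or.inr
        (Or.inl rfl))))))))), by rw [mul_comm]; norm_num, hodd1 2 (by norm_num), hA,
        fun x => (hcount x).trans (by norm_num; omega), by norm_num; omega⟩
    · obtain ⟨z, rfl⟩ := Multiset.card_eq_one.1 (show Multiset.card Y = 1 by omega)
      rcases hfix z (hone z hY) with hb | hb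
      · exact ⟨q - 1, 3, _, Or.inr (Or.inr (Or.inr (Or.inr (Or.inr (Or.inr (Or.inr (Or.inr (Or.inr
          (Or.inr (Or.inr rfl)))))))))), by rw [mul_comm]; norm_num,
          by simpa using hodd1 1 one_ne_zero, by simpa using hb,
          fun x => (hcount x).trans (by norm_num), by norm_num⟩
      · exact ⟨q + 1, 3, _, Or.inr (Or.inr (Or.inr (Or.inr (Or.inr (Or.inr (Or.inr (Or.inr (Or.inr
          (Or.inr (Or.inl rfl)))))))))), by rw [mul_comm]; norm_num, hq.add_one, by simpa using hb,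
          fun x => (hcount x).trans (by norm_num), by norm_num⟩
    · have h0 : Y = 0 := Multiset.card_eq_zero.1 (by omega)
      subst h0
      exact ⟨1, 3, _, Or.inr (Or.inr (Or.inr (Or.inr (Or.inr (Or.inr (Or.inr (Or.inr (Or.inr
        (Or.inr (Or.inl rfl)))))))))), by norm_num, odd_one, by simp, fun x => by simp,
        by norm_num⟩
  push Not at hA
  obtain ⟨y, hy, hyn⟩ := hA
  have hy1 : Tor (q ^ 2 + 1) y := (htwo y hy).resolve_left hyn
  have hnf : σ y ≠ y := fun e => by
    rcases hfix y e with h | h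
    · exact hyn (h.mono h21)
    · exact hyn (h.mono h22)
  have hyn' : ¬ Tor (q ^ 2 - 1) (σ y) := fun h => hyn (by simpa [hB y hy] using h.map σ)
  set O : Multiset L := y ::ₘ σ y ::ₘ 0 with hO
  have hOn : O.Nodup := by simp [hO, Ne.symm hnf]
  have hOle : O ≤ Y := (Multiset.le_iff_subset hOn).2 fun x hx => by
    simp [hO] at hx
    rcases hx with rfl | rfl
    · exact hy
    · exact hmem _ hy
  have hOσ : O.map σ = O := by
    simp only [hO, Multiset.map_cons, Multiset.map_zero, hB y hy]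
    rw [Multiset.cons_swap]
  have hR := hsub O hOle hOσ
  have hYeq : Y = O + (Y - O) := (add_tsub_cancel_of_le hOle).symm
  have hRc : Multiset.card (Y - O) + k = 2 := by
    have := congrArg Multiset.card hYeq
    rw [Multiset.card_add, show Multiset.card O = 2 by simp [hO]] at this
    omega
  have hty : ∀ N, q ^ 2 + 1 ∣ N → ∀ x ∈ O, Tor N x := fun N hN x hx => by
    simp [hO] at hx
    rcases hx with rfl | rfl
    · exact hy1.mono hN
    · exact (hy1.mono hN).map σ
  have hOnot : ∀ x ∈ O, ¬ Tor (q ^ 2 - 1) x := fun x hx => by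
    simp [hO] at hx
    rcases hx with rfl | rfl
    · exact hyn
    · exact hyn'
  have fin : ∀ N b n, Sp8Target q n → N * 2 ^ b ∣ n → Odd N → q ^ 2 + 1 ∣ N →
      (∀ x ∈ Y - O, Tor N x) → (∀ x, Y.count x ≤ 2 ^ b) → 2 * k ≤ 2 ^ b →
      ∃ N b n, Sp8Target q n ∧ N * 2 ^ b ∣ n ∧ Odd N ∧ (∀ y ∈ Y, Tor N y) ∧
        (∀ y, Y.count y ≤ 2 ^ b) ∧ 2 * k ≤ 2 ^ b := by
    intro N b n h1 h2 h3 h4 h5 h6 h7
    refine ⟨N, b, n, h1, h2, h3, fun x hx => ?_, h6, h7⟩
    rw [hYeq] at hx
    rcases Multiset.mem_add.1 hx with hx | hx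
    · exact hty N h4 x hx
    · exact h5 x hx
  have hodd22 : Odd ((q ^ 2 + 1) * (q + 1)) := (hodd2 2 (by norm_num)).mul hq.add_one
  have hodd21 : Odd ((q ^ 2 + 1) * (q - 1)) :=
    (hodd2 2 (by norm_num)).mul (by simpa using hodd1 1 one_ne_zero)
  rcases (show k = 0 ∨ k = 1 ∨ k = 2 by omega) with rfl | rfl | rfl
  · by_cases hA2 : ∀ x ∈ Y - O, Tor (q ^ 2 + 1) x
    · exact fin _ 2 _ (Or.inr (Or.inr (Or.inr (Or.inr (Or.inr (Or.inr (Or.inr (Or.inr
        (Or.inl rfl))))))))) (by rw [mul_comm]; norm_num) (hodd2 2 (by norm_num)) dvd_rfl hA2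
        (fun x => (hcount x).trans (by norm_num; omega)) (Nat.zero_le _)
    push Not at hA2
    obtain ⟨z, hz, hzn⟩ := hA2
    have hzY : z ∈ Y := Multiset.mem_of_le (Multiset.sub_le_self Y O) hz
    have hz1 : Tor (q ^ 2 - 1) z := (htwo z hzY).resolve_right hzn
    have hzO : z ∉ O := fun h => hOnot z h hz1
    obtain ⟨w, hw⟩ : ∃ w, Y - O = z ::ₘ w ::ₘ 0 := by
      obtain ⟨t, ht⟩ := Multiset.exists_cons_of_mem hz
      have hc : Multiset.card t = 1 := by
        have := congrArg Multiset.card ht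
        rw [Multiset.card_cons] at this
        omega
      obtain ⟨w, rfl⟩ := Multiset.card_eq_one.1 hc
      exact ⟨w, ht⟩
    have hne : z ≠ w → Tor (q ^ 2 - 1) w → ∃ N b n, Sp8Target q n ∧ N * 2 ^ b ∣ n ∧ Odd N ∧
        (∀ y ∈ Y, Tor N y) ∧ (∀ y, Y.count y ≤ 2 ^ b) ∧ 2 * 0 ≤ 2 ^ b := by
      intro hzw hw1
      refine fin _ 0 _ (Or.inr (Or.inl rfl)) (by simp) (hodd1 4 (by norm_num)) h42 ?_ ?_
        (Nat.zero_le _)
      · intro x hx
        rw [hw] at hx
        simp at hx
        rcases hx with rfl | rfl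
        · exact hz1.mono h41
        · exact hw1.mono h41
      · intro x
        rw [pow_zero]
        refine Multiset.nodup_iff_count_le_one.1 ?_ x
        rw [hYeq, hw, Multiset.nodup_add]
        refine ⟨hOn, by simp [hzw], Multiset.disjoint_left.2 fun {u} hu hu' => hOnot u hu ?_⟩
        simp at hu'
        rcases hu' with rfl | rfl
        · exact hz1
        · exact hw1
    have hwY : w ∈ Y := Multiset.mem_of_le (Multiset.sub_le_self Y O) (by rw [hw]; simp)
    by_cases hzf : σ z = z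
    · have hwf : σ w = w := by
        have h := hR
        rw [hw] at h
        simp only [Multiset.map_cons, Multiset.map_zero, hzf, Multiset.cons_inj_right] at h
        exact hone w h
      have hwO : w ∉ O := fun h => hOnot w h (by
        rcases hfix w hwf with e | e
        · exact e.mono h21
        · exact e.mono h22)
      have same : ∀ N, Sp8Target q (2 * ((q ^ 2 + 1) * N)) → Odd ((q ^ 2 + 1) * N) →
          Tor N z → Tor N w → ∃ N b n, Sp8Target q n ∧ N * 2 ^ b ∣ n ∧ Odd N ∧
            (∀ y ∈ Y, Tor N y) ∧ (∀ y, Y.count y ≤ 2 ^ b) ∧ 2 * 0 ≤ 2 ^ b := by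
        intro N hn hN ha hb
        refine fin _ 1 _ hn (by rw [pow_one, mul_comm]) hN (dvd_mul_right _ _) ?_ ?_ (Nat.zero_le _)
        · intro x hx
          rw [hw] at hx
          simp at hx
          rcases hx with rfl | rfl
          · exact ha.mono (dvd_mul_left _ _)
          · exact hb.mono (dvd_mul_left _ _)
        · intro x
          rw [hYeq, hw, Multiset.count_add, pow_one]
          simp only [Multiset.count_cons, Multiset.count_zero]
          have h1 := Multiset.nodup_iff_count_le_one.1 hOn x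
          by_cases hx : x ∈ O
          · change _ + _ ≤ 2
            have e1 : x ≠ z := fun e => hzO (e ▸ hx)
            have e2 : x ≠ w := fun e => hwO (e ▸ hx)
            simp only [if_neg e1, if_neg e2] at *
            omega
          · have h0 := Multiset.count_eq_zero_of_notMem hx
            simp only [hO, Multiset.count_cons, Multiset.count_zero] at h0 ⊢
            split_ifs at h0 ⊢ <;> omega
      rcases hfix z hzf with ha | ha <;> rcases hfix w hwf with hb | hb
      · exact same _ (Or.inr (Or.inr (Or.inr (Or.inr (Or.inr (Or.inr (Or.inr (Or.inl rfl))))))))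
          hodd21 ha hb
      · by_cases e : z = w
        · exact same _ (Or.inr (Or.inr (Or.inr (Or.inr (Or.inr (Or.inr (Or.inl rfl)))))))
            hodd22 (e ▸ hb) hb
        · exact hne e (hb.mono h22)
      · by_cases e : z = w
        · exact same _ (Or.inr (Or.inr (Or.inr (Or.inr (Or.inr (Or.inr (Or.inl rfl)))))))
            hodd22 ha (e ▸ ha)
        · exact hne e (hb.mono h21)
      · exact same _ (Or.inr (Or.inr (Or.inr (Or.inr (Or.inr (Or.inr (Or.inl rfl)))))))
          hodd22 ha hb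
    · have hsz : σ z = w := by
        have h : σ z ∈ Y - O := by
          have h' := Multiset.mem_map_of_mem σ hz
          rwa [hR] at h'
        rw [hw] at h
        simp at h
        exact h.resolve_left hzf
      exact hne (fun e => hzf (hsz.trans e.symm)) (hsz ▸ hz1.map σ)
  · obtain ⟨z, hz⟩ := Multiset.card_eq_one.1 (show Multiset.card (Y - O) = 1 by omega)
    rw [hz] at hR
    have hzf := hone z hR
    have hc : ∀ x, Y.count x ≤ 2 ^ 1 := fun x => by
      rw [hYeq, hz, Multiset.count_add, pow_one, Multiset.count_singleton]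
      have := Multiset.nodup_iff_count_le_one.1 hOn x
      split_ifs <;> omega
    rcases hfix z hzf with ha | ha
    · exact fin _ 1 _ (Or.inr (Or.inr (Or.inr (Or.inr (Or.inr (Or.inr (Or.inr (Or.inl rfl))))))))
        (by rw [pow_one, mul_comm]) hodd21 (dvd_mul_right _ _)
        (fun x hx => by rw [hz] at hx; rw [Multiset.mem_singleton.1 hx]; exact ha.mono (dvd_mul_left _ _))
        hc (by norm_num)
    · exact fin _ 1 _ (Or.inr (Or.inr (Or.inr (Or.inr (Or.inr (Or.inr (Or.inl rfl)))))))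
        (by rw [pow_one, mul_comm]) hodd22 (dvd_mul_right _ _)
        (fun x hx => by rw [hz] at hx; rw [Multiset.mem_singleton.1 hx]; exact ha.mono (dvd_mul_left _ _))
        hc (by norm_num)
  · have hR0 : Y - O = 0 := Multiset.card_eq_zero.1 (by omega)
    exact fin _ 2 _ (Or.inr (Or.inr (Or.inr (Or.inr (Or.inr (Or.inr (Or.inr (Or.inr
        (Or.inl rfl))))))))) (by rw [mul_comm]; norm_num) (hodd2 2 (by norm_num)) dvd_rfl
        (fun x hx => by rw [hR0] at hx; simp at hx)
        (fun x => (hcount x).trans (by norm_num; omega)) (by norm_num)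

end

end CfsgLib.Spec83
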