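import Mathlib
import Cfsg.Agent.Spec83.O8Minus
import Cfsg.Agent.Spec83.Sp8Target

/-!
Isometries of the eight-dimensional quadratic space of minus type, `q` even, with each of the
maximal orders of `Sp(8, q)`, and the elements giving these orders in the affine group.
-/

set_option autoImplicit false
set_option linter.unusedSectionVars false

namespace CfsgLib.Spec83

open Module CfsgLib.OrthPrimeClasses CfsgLib.Classical.Orth
open scoped _root_.Classical

variable {F : Type*} [Field F] [CharP F 2]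

section Nilpotent

variable {V : Type*} [AddCommGroup V] [Module F V]

theorem end_add_self (M : Module.End F V) : M + M = 0 := by
  rw [← two_smul F M, CharTwo.two_eq_zero, zero_smul]

theorem one_add_pow_two_pow (N : Module.End F V) (j : ℕ) : (1 + N) ^ 2 ^ j = 1 + N ^ 2 ^ j := by
  induction j with
  | zero => simp
  | succ j ih =>
    rw [pow_succ, pow_mul, ih, pow_mul, sq, sq]
    linear_combination (norm := noncomm_ring) end_add_self (N ^ 2 ^ j)

theorem orderOf_one_add (N : Module.End F V) (j : ℕ) (h1 : N ^ 2 ^ j ≠ 0)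
    (h2 : N ^ 2 ^ (j + 1) = 0) : orderOf (1 + N) = 2 ^ (j + 1) :=
  orderOf_eq_prime_pow (p := 2)
    (by rw [one_add_pow_two_pow, add_eq_left]; exact h1)
    (by rw [one_add_pow_two_pow, h2, add_zero])

end Nilpotent

/-- A reflection of a plane. -/
theorem hasV_refl (c : F) : HasV (binForm 1 c) 2 1 := by
  let N : Module.End F (Fin 2 → F) :=
    { toFun := fun z => ![z 1, 0]
      map_add' := fun a b => funext fun i => by fin_cases i <;> simp
      map_smul' := fun t a => funext fun i => by fin_cases i <;> simp }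
  have hN : ∀ z, N z = ![z 1, 0] := fun z => rfl
  refine ⟨1 + N, ![0, 1], fun z => ?_, ?_, ?_, ?_⟩
  · simp [binForm, hN]
    linear_combination (z 0 * z 1 + z 1 ^ 2) * CharTwo.two_eq_zero (R := F)
  · refine orderOf_one_add N 0 ?_ ?_
    · intro h
      have := congrFun (LinearMap.congr_fun h ![0, 1]) 0
      simp [hN] at this
    · refine LinearMap.ext fun z => funext fun i => ?_
      fin_cases i <;> simp [pow_succ, hN]
  · have hk : LinearMap.ker N = Submodule.span F {![1, 0]} := by
      refine le_antisymm (fun z hz => ?_) (by simp [Submodule.span_le, hN])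
      rw [LinearMap.mem_ker, hN] at hz
      refine Submodule.mem_span_singleton.2 ⟨z 0, funext fun i => ?_⟩
      have := congrFun hz 0
      fin_cases i <;> simp_all
    rw [add_sub_cancel_left, hk, finrank_span_singleton (fun h => by simpa using congrFun h 0)]
  · intro h
    have := congrFun h 0
    simp [Finset.sum_range_succ, hN] at this

/-- The product of two coordinates. -/
def pairForm (p : F × F) : F := p.1 * p.2

theorem similar_pairForm : Similar (pairForm (F := F)) (hyp 1) :=
  Similar.of_equiv ((LinearEquiv.funUnique (Fin 1) F F).symm.prodCongr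
      (LinearEquiv.funUnique (Fin 1) F F).symm)
    fun p => by simp [hyp, pairForm, dotProduct]

/-- A single Jordan block of size four. -/
theorem hasV_block_four (c : F) : HasV (osum (hyp (F := F) 1) (binForm 1 c)) 4 1 := by
  refine HasV.map ?_ (similar_pairForm.sum_left _)
  let N : Module.End F ((F × F) × (Fin 2 → F)) :=
    { toFun := fun v => ((c * v.1.2 + v.2 0 + v.2 1, 0), ![v.2 1, v.1.2])
      map_add' := fun a b => Prod.ext (Prod.ext (by simp; ring) (by simp))
        (funext fun i => by fin_cases i <;> simp)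
      map_smul' := fun t a => Prod.ext (Prod.ext (by simp; ring) (by simp))
        (funext fun i => by fin_cases i <;> simp) }
  have hN : ∀ v, N v = ((c * v.1.2 + v.2 0 + v.2 1, 0), ![v.2 1, v.1.2]) := fun v => rfl
  have h3 : ∑ i ∈ Finset.range 4, (1 + N) ^ i = N ^ 3 := by
    have e : ∑ i ∈ Finset.range 4, (1 + N) ^ i = (1 + (1 + N) ^ 2) * (1 + (1 + N)) := by
      simp [Finset.sum_range_succ]
      noncomm_ring
    rw [e, show (1 + N) ^ 2 = 1 + N ^ 2 from one_add_pow_two_pow N 1, ← add_assoc, ← add_assoc,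
      end_add_self, zero_add, zero_add]
    noncomm_ring
  refine ⟨1 + N, ((0, 1), 0), fun v => ?_, ?_, ?_, ?_⟩
  · obtain ⟨⟨x, y⟩, z⟩ := v
    simp [osum, pairForm, binForm, hN, Matrix.vecHead, Matrix.vecTail]
    linear_combination (z 0 * y + z 0 * z 1 + z 1 * y * c + z 1 * y + z 1 ^ 2 + y ^ 2 * c) *
      CharTwo.two_eq_zero (R := F)
  · refine orderOf_one_add N 1 ?_ ?_
    · intro h
      have := congrArg (fun v => v.1.1) (LinearMap.congr_fun h ((0, 0), ![0, 1]))
      simp [pow_succ, hN] at this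
    · refine LinearMap.ext fun v => ?_
      simp [pow_succ, hN]
  · have hk : LinearMap.ker N = Submodule.span F {((1, 0), 0)} := by
      refine le_antisymm (fun v hv => ?_) (by simp [Submodule.span_le, hN])
      rw [LinearMap.mem_ker, hN] at hv
      obtain ⟨⟨x, y⟩, z⟩ := v
      simp [Prod.ext_iff, funext_iff, Fin.forall_fin_two] at hv
      obtain ⟨h1, h2, h4⟩ := hv
      refine Submodule.mem_span_singleton.2 ⟨x, ?_⟩
      rw [h4, h2] at h1
      simp [Prod.ext_iff, funext_iff, Fin.forall_fin_two, h2, h4]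
      linear_combination -h1
    rw [add_sub_cancel_left, hk, finrank_span_singleton (fun h => by
      simpa using congrArg (fun v => v.1.1) h)]
  · rw [h3]
    intro h
    have := congrArg (fun v => v.1.1) h
    simp [pow_succ, hN] at this

/-- A single Jordan block of size six. -/
theorem has_block_six (c : F) : ∃ s, Has (osum (hyp (F := F) 2) (binForm 1 c)) 8 s := by
  suffices H : ∃ s, Has (osum (pairForm (F := F)) (osum pairForm (binForm 1 c))) 8 s by
    obtain ⟨s, hs⟩ := H
    exact ⟨s, hs.map (((similar_pairForm.sum_left _).sum_right _).trans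
      ((similar_pairForm.sum_left _).trans (absorb_left 1 1 c)))⟩
  let N : Module.End F ((F × F) × ((F × F) × (Fin 2 → F))) :=
    { toFun := fun v => ((v.2.1.1 + c * v.2.1.2 + v.2.2 0 + v.2.2 1, 0),
        ((c * v.2.1.2 + v.2.2 0 + v.2.2 1, v.1.2), ![v.2.2 1, v.2.1.2]))
      map_add' := fun a b => Prod.ext (Prod.ext (by simp; ring) (by simp))
        (Prod.ext (Prod.ext (by simp; ring) (by simp)) (funext fun i => by fin_cases i <;> simp))
      map_smul' := fun t a => Prod.ext (Prod.ext (by simp; ring) (by simp))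
        (Prod.ext (Prod.ext (by simp; ring) (by simp)) (funext fun i => by fin_cases i <;> simp)) }
  have hN : ∀ v, N v = ((v.2.1.1 + c * v.2.1.2 + v.2.2 0 + v.2.2 1, 0),
      ((c * v.2.1.2 + v.2.2 0 + v.2.2 1, v.1.2), ![v.2.2 1, v.2.1.2])) := fun v => rfl
  refine ⟨finrank F (LinearMap.ker (1 + N - 1)), 1 + N, fun v => ?_, ?_, rfl⟩
  · obtain ⟨⟨x2, y2⟩, ⟨x1, y1⟩, z⟩ := v
    simp [osum, pairForm, binForm, hN, Matrix.vecHead, Matrix.vecTail]
    linear_combination (x1 * y2 + y1 * y2 * c + z 0 * y2 + z 1 * y2 + z 0 * y1 + z 0 * z 1 +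
      z 1 * y1 * c + z 1 * y1 + z 1 ^ 2 + y1 ^ 2 * c) * CharTwo.two_eq_zero (R := F)
  · refine orderOf_one_add N 2 ?_ ?_
    · intro h
      have := congrArg (fun v => v.1.1) (LinearMap.congr_fun h ((0, 0), ((0, 1), 0)))
      simp [pow_succ, hN] at this
    · refine LinearMap.ext fun v => ?_
      simp [pow_succ, hN]

theorem Has.sum_coprime {V W : Type*} [AddCommGroup V] [Module F V] [AddCommGroup W] [Module F W]
    [FiniteDimensional F V] [FiniteDimensional F W] {Q : V → F} {R : W → F} {m n s t : ℕ}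
    (h : Has Q m s) (h' : Has R n t) (hc : Nat.Coprime m n) : Has (osum Q R) (m * n) (s + t) := by
  have := h.sum h'
  rwa [hc.lcm_eq_mul] at this

theorem Has.sumV_two {V W : Type*} [AddCommGroup V] [Module F V] [AddCommGroup W] [Module F W]
    [FiniteDimensional F V] [FiniteDimensional F W] {Q : V → F} {R : W → F} {m j t : ℕ}
    (h : Has Q m 0) (hm : Odd m) (h' : HasV R (2 ^ j) t) : HasV (osum Q R) (2 ^ j * m) t := by
  have := h.sumV h' (c := m) (by
    rw [(Nat.Coprime.pow_right j hm.coprime_two_right).lcm_eq_mul, mul_comm]) hm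
  rwa [zero_add] at this

variable [Fintype F]

theorem even_card : Even (Fintype.card F) := by
  obtain ⟨d, -, hd⟩ := FiniteField.card F 2
  rw [hd]
  exact Nat.even_pow.2 ⟨even_two, d.ne_zero⟩

theorem coprime_of_add_two {a b c : ℕ} (hc : Odd b) (hd : b ∣ c) (h : a = c + 2 ∨ c = a + 2) :
    Nat.Coprime a b := by
  have h2 : Nat.gcd a b ∣ 2 := by
    have h1 := Nat.gcd_dvd_left a b
    have h3 := (Nat.gcd_dvd_right a b).trans hd
    rcases h with rfl | rfl
    · exact (Nat.dvd_add_right h3).1 h1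
    · exact (Nat.dvd_add_right h1).1 h3
  rcases (Nat.dvd_prime Nat.prime_two).1 h2 with e | e
  · exact e
  · exfalso
    have := e ▸ Nat.gcd_dvd_right a b
    obtain ⟨x, hx⟩ := hc
    omega

variable (F) in
/-- The orders of the two tori with a complementary plane. -/
theorem pow_facts :
    Odd (Fintype.card F ^ 2 + 1) ∧ Odd (Fintype.card F ^ 3 + 1) ∧
    Odd (Fintype.card F ^ 2 - 1) ∧ Odd (Fintype.card F ^ 3 - 1) ∧
    Odd (Fintype.card F + 1) ∧ Odd (Fintype.card F - 1) ∧
    Nat.Coprime (Fintype.card F ^ 2 + 1) (Fintype.card F ^ 2 - 1) ∧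
    Nat.Coprime (Fintype.card F ^ 3 + 1) (Fintype.card F - 1) ∧
    Nat.Coprime (Fintype.card F ^ 3 - 1) (Fintype.card F + 1) ∧
    Nat.Coprime (Fintype.card F ^ 2 + 1) (Fintype.card F + 1) ∧
    Nat.Coprime (Fintype.card F ^ 2 + 1) (Fintype.card F - 1) := by
  have hq := even_card (F := F)
  set q := Fintype.card F
  have h0 : 0 < q := Fintype.card_pos
  have a := odd_sub_one_pow hq h0
  have b := odd_add_one_pow hq
  have a1 : Odd (q - 1) := by simpa using a 1 one_ne_zero
  have h2 : 1 ≤ q ^ 2 := Nat.one_le_pow _ _ h0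
  have h3 : 1 ≤ q ^ 3 := Nat.one_le_pow _ _ h0
  refine ⟨b 2 (by norm_num), b 3 (by norm_num), a 2 (by norm_num), a 3 (by norm_num), hq.add_one,
    a1, coprime_of_add_two (a 2 (by norm_num)) dvd_rfl (Or.inl (by omega)),
    coprime_of_add_two a1 (sub_one_dvd_cube q) (Or.inl (by omega)),
    coprime_of_add_two hq.add_one (add_one_dvd_cube q) (Or.inr (by omega)),
    coprime_of_add_two hq.add_one (c := q ^ 2 - 1) (by simpa using add_one_dvd_sq q 1)
      (Or.inl (by omega)),
    coprime_of_add_two a1 (c := q ^ 2 - 1) (by simpa using sub_one_dvd_sq q 1)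
      (Or.inl (by omega))⟩

variable {c : F} (hc : ∀ t : F, t ^ 2 + t + c ≠ 0)
include hc

/-- The tori with a plane left over: a `2`-element on that plane multiplies the order. -/
theorem hasV_torus_plane (n j s : ℕ) (hH : HasV (hyp (F := F) 1) (2 ^ j) s)
    (hP : HasV (binForm 1 c) (2 ^ j) s)
    (hn : n = Fintype.card F ^ 3 + 1 ∨ n = Fintype.card F ^ 3 - 1 ∨
      n = (Fintype.card F ^ 2 + 1) * (Fintype.card F + 1) ∨
      n = (Fintype.card F ^ 2 + 1) * (Fintype.card F - 1)) :
    HasV (osum (hyp (F := F) 3) (binForm 1 c)) (2 ^ j * n) s := by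
  obtain ⟨o2, o3, -, o3', o1, o1', -, -, -, c21, c21'⟩ := pow_facts F
  rcases hn with rfl | rfl | rfl | rfl
  · exact ((has_minus_torus 2 hc).sumV_two o3 hH).map (absorb_right 2 1 c)
  · exact (has_plus_torus 3).sumV_two o3' hP
  · have hm : Has (osum (hyp (F := F) 0) (binForm 1 c)) (Fintype.card F + 1) 0 := by
      simpa using has_minus_torus 0 hc
    refine (((has_minus_torus 1 hc).sum_coprime hm c21).sumV_two (o2.mul o1) hP).map ?_
    refine (similar_assoc _ _ _).trans ((Similar.sum_right ?_ _).trans (absorb_right 1 2 c))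
    exact (similar_assoc _ _ _).trans (((similar_plane_plane hc).sum_right _).trans
      (similar_hyp_add 0 2))
  · have hm : Has (hyp (F := F) 1) (Fintype.card F - 1) 0 := by
      simpa using has_plus_torus (F := F) 1
    refine (((has_minus_torus 1 hc).sum_coprime hm c21').sumV_two (o2.mul o1') hH).map ?_
    exact (similar_assoc _ _ _).trans (((similar_hyp_add 1 1).sum_right _).trans
      (absorb_right 1 2 c))

/-- The tori on four dimensions, with a `2`-element on the other four. -/
theorem hasV_torus_four (n j s : ℕ) (hH : HasV (hyp (F := F) 2) (2 ^ j) s)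
    (hP : HasV (osum (hyp (F := F) 1) (binForm 1 c)) (2 ^ j) s)
    (hn : n = Fintype.card F ^ 2 + 1 ∨ n = Fintype.card F ^ 2 - 1) :
    HasV (osum (hyp (F := F) 3) (binForm 1 c)) (2 ^ j * n) s := by
  obtain ⟨o2, -, o2', -⟩ := pow_facts F
  rcases hn with rfl | rfl
  · exact ((has_minus_torus 1 hc).sumV_two o2 hH).map (absorb_right 1 2 c)
  · exact ((has_plus_torus 2).sumV_two o2' hP).map (absorb_left 1 2 c)

omit hc in
/-- The unipotent elements used on four dimensions. -/
theorem hasV_four_plus : HasV (hyp (F := F) 2) 4 1 :=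
  (hasV_block_four 0).map ((similar_binForm_zero.sum_right _).trans (similar_hyp_add 1 1))

/-- The orders attained in the orthogonal group of minus type. -/
theorem exists_has {n : ℕ} (hn : Sp8Target (Fintype.card F) n) :
    ∃ s, Has (osum (hyp (F := F) 3) (binForm 1 c)) n s := by
  obtain ⟨o2, o3, o2', o3', o1, o1', c22, c31, c31', -, -⟩ := pow_facts F
  set q := Fintype.card F
  have hH1 : HasV (hyp (F := F) 1) (2 ^ 1) 1 := (hasV_refl 0).map similar_binForm_zero
  have hP1 : HasV (binForm 1 c) (2 ^ 1) 1 := hasV_refl c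
  rcases hn with rfl | rfl | rfl | rfl | rfl | rfl | rfl | rfl | rfl | rfl | rfl | rfl
  · exact ⟨0, has_minus_torus 3 hc⟩
  · refine ⟨0, ?_⟩
    have h := ((has_minus_torus 1 hc).sum_coprime (has_plus_torus 2) c22).map (absorb_right 1 2 c)
    rwa [← Nat.sq_sub_sq, one_pow, ← pow_mul] at h
  · refine ⟨0, ?_⟩
    have hm : Has (hyp (F := F) 1) (q - 1) 0 := by simpa using has_plus_torus (F := F) 1
    exact ((has_minus_torus 2 hc).sum_coprime hm c31).map (absorb_right 2 1 c)
  · refine ⟨0, ?_⟩
    have hm : Has (osum (hyp (F := F) 0) (binForm 1 c)) (q + 1) 0 := by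
      simpa using has_minus_torus 0 hc
    exact ((has_plus_torus 3).sum_coprime hm c31').map (absorb_left 0 3 c)
  · exact ⟨1, (hasV_torus_plane hc _ 1 1 hH1 hP1 (Or.inl rfl)).has⟩
  · exact ⟨1, (hasV_torus_plane hc _ 1 1 hH1 hP1 (Or.inr (Or.inl rfl))).has⟩
  · exact ⟨1, (hasV_torus_plane hc _ 1 1 hH1 hP1 (Or.inr (Or.inr (Or.inl rfl)))).has⟩
  · exact ⟨1, (hasV_torus_plane hc _ 1 1 hH1 hP1 (Or.inr (Or.inr (Or.inr rfl)))).has⟩
  · exact ⟨1, (hasV_torus_four hc _ 2 1 hasV_four_plus (hasV_block_four c) (Or.inl rfl)).has⟩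
  · exact ⟨1, (hasV_torus_four hc _ 2 1 hasV_four_plus (hasV_block_four c) (Or.inr rfl)).has⟩
  · obtain ⟨s, hs⟩ := has_block_six (0 : F)
    refine ⟨0 + s, ?_⟩
    have hm : Has (osum (hyp (F := F) 0) (binForm 1 c)) (q + 1) 0 := by
      simpa using has_minus_torus 0 hc
    have hu : Has (hyp (F := F) 3) 8 s :=
      hs.map ((similar_binForm_zero.sum_right _).trans (similar_hyp_add 2 1))
    have h := (hm.sum_coprime hu
      (Nat.Coprime.pow_right 3 o1.coprime_two_right)).map (absorb_right 0 3 c)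
    rwa [mul_comm] at h
  · obtain ⟨s, hs⟩ := has_block_six c
    refine ⟨0 + s, ?_⟩
    have hm : Has (hyp (F := F) 1) (q - 1) 0 := by simpa using has_plus_torus (F := F) 1
    have h := (hm.sum_coprime hs
      (Nat.Coprime.pow_right 3 o1'.coprime_two_right)).map (absorb_left 2 1 c)
    rwa [mul_comm] at h

/-- The elements giving the orders in the affine group. -/
theorem exists_aff {n : ℕ} (hn : Sp8Target (Fintype.card F) n) :
    Has (osum (hyp (F := F) 3) (binForm 1 c)) n 0 ∨
      ∃ m, n = 2 * m ∧ HasV (osum (hyp (F := F) 3) (binForm 1 c)) m 0 := by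
  obtain ⟨o2, o3, o2', o3', o1, o1', c22, c31, c31', -, -⟩ := pow_facts F
  set q := Fintype.card F
  haveI : Nontrivial ((Fin 1 → F) × (Fin 1 → F)) := inferInstance
  have hH0 : HasV (hyp (F := F) 1) (2 ^ 0) 0 := hasV_id (by simp)
  have hP0 : HasV (binForm (1 : F) c) (2 ^ 0) 0 := hasV_id (by simp)
  have hplane : ∀ m, m = q ^ 3 + 1 ∨ m = q ^ 3 - 1 ∨ m = (q ^ 2 + 1) * (q + 1) ∨
      m = (q ^ 2 + 1) * (q - 1) → HasV (osum (hyp (F := F) 3) (binForm 1 c)) m 0 := by
    intro m hm
    simpa using hasV_torus_plane hc m 0 0 hH0 hP0 hm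
  have hr2 : ∀ (d : F), HasV (osum (hyp (F := F) 1) (binForm 1 d)) (2 ^ 1) 0 := fun d => by
    have h := (((hasV_refl (0 : F)).map similar_binForm_zero).has.sumV (hasV_refl d) (c := 1)
      (by simp) odd_one)
    obtain ⟨f, v, h1, h2, h3, h4⟩ := h
    exact ⟨f, v, h1, h2, h3.trans (by norm_num), h4⟩
  have hH2 : HasV (hyp (F := F) 2) (2 ^ 1) 0 :=
    (hr2 0).map ((similar_binForm_zero.sum_right _).trans (similar_hyp_add 1 1))
  have hr6 : ∀ (d : F), HasV (osum (binForm (1 : F) d) (hyp (F := F) 2)) (2 ^ 2) 0 := fun d => by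
    have h := ((hasV_refl d).has.sumV (hasV_four_plus (F := F)) (c := 1) rfl odd_one)
    obtain ⟨f, v, h1, h2, h3, h4⟩ := h
    exact ⟨f, v, h1, h2, h3.trans (by norm_num), h4⟩
  rcases hn with rfl | rfl | rfl | rfl | rfl | rfl | rfl | rfl | rfl | rfl | rfl | rfl
  · exact Or.inl (has_minus_torus 3 hc)
  · left
    have h := ((has_minus_torus 1 hc).sum_coprime (has_plus_torus 2) c22).map (absorb_right 1 2 c)
    rwa [← Nat.sq_sub_sq, one_pow, ← pow_mul] at h
  · left
    have hm : Has (hyp (F := F) 1) (q - 1) 0 := by simpa using has_plus_torus (F := F) 1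
    exact ((has_minus_torus 2 hc).sum_coprime hm c31).map (absorb_right 2 1 c)
  · left
    have hm : Has (osum (hyp (F := F) 0) (binForm 1 c)) (q + 1) 0 := by
      simpa using has_minus_torus 0 hc
    exact ((has_plus_torus 3).sum_coprime hm c31').map (absorb_left 0 3 c)
  · exact Or.inr ⟨_, rfl, hplane _ (Or.inl rfl)⟩
  · exact Or.inr ⟨_, rfl, hplane _ (Or.inr (Or.inl rfl))⟩
  · exact Or.inr ⟨_, rfl, hplane _ (Or.inr (Or.inr (Or.inl rfl)))⟩
  · exact Or.inr ⟨_, rfl, hplane _ (Or.inr (Or.inr (Or.inr rfl)))⟩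
  · exact Or.inr ⟨2 ^ 1 * (q ^ 2 + 1), by ring,
      hasV_torus_four hc _ 1 0 hH2 (hr2 c) (Or.inl rfl)⟩
  · exact Or.inr ⟨2 ^ 1 * (q ^ 2 - 1), by ring,
      hasV_torus_four hc _ 1 0 hH2 (hr2 c) (Or.inr rfl)⟩
  · refine Or.inr ⟨2 ^ 2 * (q + 1), by ring, ?_⟩
    have hm : Has (osum (hyp (F := F) 0) (binForm 1 c)) (q + 1) 0 := by
      simpa using has_minus_torus 0 hc
    refine (hm.sumV_two o1 (hr6 0)).map ?_
    exact (((similar_binForm_zero.sum_left _).trans (similar_hyp_add 1 2)).sum_right _).trans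
      (absorb_right 0 3 c)
  · refine Or.inr ⟨2 ^ 2 * (q - 1), by ring, ?_⟩
    have hm : Has (hyp (F := F) 1) (q - 1) 0 := by simpa using has_plus_torus (F := F) 1
    refine (hm.sumV_two o1' (hr6 c)).map ?_
    exact ((similar_comm _ _).sum_right _).trans (absorb_left 2 1 c)

end CfsgLib.Spec83
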