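import Mathlib
import Cfsg.Agent.Spec83.Sp8Target

/-!
An upper bound for the element orders in dimension eight of matrices preserving a non-degenerate
bilinear form in characteristic two, and for the sums of their powers.
-/

set_option autoImplicit false

namespace CfsgLib.Spec83

open Polynomial Matrix Module

section Poly

variable {L : Type*} [Field L]

/-- The polynomial of the pair of roots with sum `y`. -/
noncomputable def pairPoly (y : L) : L[X] := X ^ 2 - C y * X + 1

theorem isCoprime_pairPoly {y z : L} (h : y ≠ z) : IsCoprime (pairPoly y) (pairPoly z) := by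
  have hc : C (z - y)⁻¹ * (C z - C y) = (1 : L[X]) := by
    rw [← map_sub, ← map_mul, inv_mul_cancel₀ (sub_ne_zero.2 (Ne.symm h)), map_one]
  refine ⟨1 - (X - C y) * C (z - y)⁻¹, (X - C y) * C (z - y)⁻¹, ?_⟩
  unfold pairPoly
  linear_combination (-(X * (X - C y))) * hc

theorem pairPoly_dvd_sum_range [CharP L 2] {N : ℕ} {y : L} (hy : y ≠ 0) (h : Tor N y) :
    pairPoly y ∣ ∑ i ∈ Finset.range N, X ^ i := by
  obtain ⟨l, h0, rfl, hl⟩ := h
  have hne : l ≠ l⁻¹ := fun e => hy (by rw [← e, CharTwo.add_self_eq_zero])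
  have hP : pairPoly (l + l⁻¹) = (X - C l) * (X - C l⁻¹) := by
    have e : C l * C l⁻¹ = (1 : L[X]) := by rw [← map_mul, mul_inv_cancel₀ h0, map_one]
    unfold pairPoly
    rw [map_add]
    linear_combination -e
  have h1 : pairPoly (l + l⁻¹) ∣ X ^ N - 1 := by
    rw [hP]
    refine (isCoprime_X_sub_C_of_isUnit_sub (sub_ne_zero.2 hne).isUnit).mul_dvd ?_ ?_ <;>
      simp [dvd_iff_isRoot, hl]
  rw [← geom_sum_mul] at h1
  refine IsCoprime.dvd_of_dvd_mul_right ?_ h1
  rw [← C_1]
  refine (((prime_X_sub_C (1 : L)).coprime_iff_not_dvd).2 fun hd => hy ?_).symm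
  have h2 : (pairPoly (l + l⁻¹)).eval 1 = 0 := dvd_iff_isRoot.1 hd
  simp [pairPoly, CharTwo.sub_eq_add] at h2
  linear_combination h2 - CharTwo.two_eq_zero (R := L)

theorem prod_pairPoly_dvd [DecidableEq L] [CharP L 2] {N b : ℕ} (Y : Multiset L)
    (h0 : (0 : L) ∉ Y) (hT : ∀ y ∈ Y, Tor N y) (hc : ∀ y, Y.count y ≤ 2 ^ b) :
    (Y.map pairPoly).prod ∣ (∑ i ∈ Finset.range N, X ^ i) ^ 2 ^ b := by
  rw [Finset.prod_multiset_map_count]
  refine (Finset.prod_dvd_prod_of_dvd _ (fun y => pairPoly y ^ 2 ^ b)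
    fun y _ => pow_dvd_pow _ (hc y)).trans ?_
  rw [Finset.prod_pow]
  refine pow_dvd_pow_of_dvd (Finset.prod_dvd_of_coprime ?_ fun y hy => ?_) _
  · intro y _ z _ hyz
    exact isCoprime_pairPoly hyz
  · rw [Multiset.mem_toFinset] at hy
    exact pairPoly_dvd_sum_range (fun e => h0 (e ▸ hy)) (hT y hy)

/-- A self-reciprocal monic polynomial of degree eight through `x + 1 / x`. -/
theorem eq_prod_pairPoly [Infinite L] {c7 c6 c5 c4 : L} (r : Multiset L)
    (hr : X ^ 4 + C c7 * X ^ 3 + C (c6 - 4) * X ^ 2 + C (c5 - 3 * c7) * X +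
      C (c4 - 2 * c6 + 2) = (r.map fun y => X - C y).prod) (hr4 : Multiset.card r = 4) :
    X ^ 8 + C c7 * X ^ 7 + C c6 * X ^ 6 + C c5 * X ^ 5 + C c4 * X ^ 4 + C c5 * X ^ 3 +
      C c6 * X ^ 2 + C c7 * X + 1 = (r.map pairPoly).prod := by
  refine mul_left_cancel₀ (X_ne_zero (R := L)) (Polynomial.funext fun t => ?_)
  rcases eq_or_ne t 0 with rfl | ht
  · simp
  · have h := congrArg (Polynomial.eval (t + t⁻¹)) hr
    have key : ∀ s : Multiset L, (s.map pairPoly).prod.eval t =
        t ^ Multiset.card s * (s.map fun y => X - C y).prod.eval (t + t⁻¹) := by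
      intro s
      induction s using Multiset.induction_on with
      | empty => simp
      | cons y s ih =>
        rw [Multiset.map_cons, Multiset.prod_cons, Multiset.map_cons, Multiset.prod_cons,
          eval_mul, eval_mul, ih, Multiset.card_cons, pow_succ]
        simp only [pairPoly, eval_add, eval_sub, eval_mul, eval_pow, eval_X, eval_C, eval_one]
        field_simp
        ring
    rw [eval_mul, eval_mul, key, hr4, ← h]
    simp only [eval_add, eval_mul, eval_pow, eval_X, eval_C, eval_one]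
    field_simp
    ring

end Poly

section Matrix

variable {F : Type*} [Field F] {ι : Type*} [Fintype ι] [DecidableEq ι]

theorem charpoly_coeff_symm_of_form [CharP F 2] {A S : Matrix ι ι F} (hS : IsUnit S.det)
    (hA : Aᵀ * S * A = S) (hι : Fintype.card ι = 8) {k : ℕ} (hk : k ≤ 8) :
    A.charpoly.coeff k = A.charpoly.coeff (8 - k) := by
  have hd : A.det = 1 := by
    have h := congrArg Matrix.det hA
    rw [det_mul, det_mul, det_transpose] at h
    have h2 : (A.det - 1) ^ 2 = 0 := by
      have : A.det * A.det = 1 := mul_right_cancel₀ hS.ne_zero (by linear_combination h)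
      linear_combination this + (1 - A.det) * CharTwo.two_eq_zero (R := F)
    exact sub_eq_zero.1 (pow_eq_zero_iff two_ne_zero |>.1 h2)
  have hu : IsUnit A := (Matrix.isUnit_iff_isUnit_det A).2 (by rw [hd]; exact isUnit_one)
  have h1 : A⁻¹.charpoly = A.charpolyRev := by
    rw [Matrix.charpoly_inv A hu, hd, Ring.inverse_one, map_one, mul_one, hι]
    norm_num
  have hSu : IsUnit S := (Matrix.isUnit_iff_isUnit_det S).2 hS
  have h2 : A⁻¹ = ((hSu.unit⁻¹ : (Matrix ι ι F)ˣ) : Matrix ι ι F) * Aᵀ *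
      (hSu.unit : Matrix ι ι F) := by
    refine Matrix.inv_eq_left_inv ?_
    rw [IsUnit.unit_spec, mul_assoc, mul_assoc, ← mul_assoc Aᵀ, hA]
    exact hSu.val_inv_mul
  have hrev : A.charpoly.reverse = A.charpoly := by
    rw [Matrix.reverse_charpoly, ← h1, h2, Matrix.coe_units_inv, Matrix.charpoly_units_conj',
      Matrix.charpoly_transpose]
  conv_lhs => rw [← hrev]
  rw [Polynomial.coeff_reverse, Matrix.charpoly_natDegree_eq_dim, hι, Polynomial.revAt_le hk]

/-- The characteristic polynomial splits off `(X - 1) ^ (2 k)` with controlled cofactor. -/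
theorem exists_factor [Fintype F] [CharP F 2] {A S : Matrix ι ι F} (hS : IsUnit S.det)
    (hA : Aᵀ * S * A = S) (hι : Fintype.card ι = 8) :
    ∃ (k : ℕ) (ψ : F[X]) (N b n : ℕ), Sp8Target (Fintype.card F) n ∧
      A.charpoly = (X - 1) ^ (2 * k) * ψ ∧ ψ.eval 1 ≠ 0 ∧
      ψ ∣ (∑ i ∈ Finset.range N, X ^ i) ^ 2 ^ b ∧ N * 2 ^ b ∣ n ∧ 2 * k ≤ 2 ^ b := by
  classical
  obtain ⟨e, -, he⟩ := FiniteField.card F 2
  set q := Fintype.card F with hq
  have hqe : Even q := by rw [he]; exact Nat.even_pow.2 ⟨even_two, e.ne_zero⟩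
  set L := AlgebraicClosure F
  set f := algebraMap F L
  have : CharP L 2 := charP_of_injective_algebraMap f.injective 2
  set σ : L →+* L := iterateFrobenius L 2 e with hσdef
  have hσ : ∀ x, σ x = x ^ q := fun x => by rw [hσdef, iterateFrobenius_def, he]
  have hσf : ∀ c : F, σ (f c) = f c := fun c => by rw [hσ, ← map_pow, FiniteField.pow_card]
  set χ := A.charpoly with hχ
  have hdeg : χ.natDegree = 8 := by rw [hχ, Matrix.charpoly_natDegree_eq_dim, hι]
  have hc : ∀ j ≤ 8, χ.coeff j = χ.coeff (8 - j) := fun j hj =>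
    charpoly_coeff_symm_of_form hS hA hι hj
  have hexp : χ = X ^ 8 + C (χ.coeff 7) * X ^ 7 + C (χ.coeff 6) * X ^ 6 + C (χ.coeff 5) * X ^ 5 +
      C (χ.coeff 4) * X ^ 4 + C (χ.coeff 5) * X ^ 3 + C (χ.coeff 6) * X ^ 2 +
      C (χ.coeff 7) * X + 1 := by
    have h8 : χ.coeff 8 = 1 := by rw [← hdeg]; exact A.charpoly_monic
    conv_lhs => rw [χ.as_sum_range_C_mul_X_pow, hdeg]
    simp only [Finset.sum_range_succ, Finset.sum_range_zero, zero_add]
    rw [hc 0 (by norm_num), hc 1 (by norm_num), hc 2 (by norm_num), hc 3 (by norm_num)]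
    norm_num [h8]
    ring
  set R : F[X] := X ^ 4 + C (χ.coeff 7) * X ^ 3 + C (χ.coeff 6 - 4) * X ^ 2 +
      C (χ.coeff 5 - 3 * χ.coeff 7) * X + C (χ.coeff 4 - 2 * χ.coeff 6 + 2) with hR
  have hRm : R.Monic := by rw [hR]; monicity!
  have hRd : R.natDegree = 4 := by rw [hR]; compute_degree!
  have hsplit : (R.map f).Splits := IsAlgClosed.splits _
  set r := (R.map f).roots with hr
  have hprod : R.map f = (r.map fun y => X - C y).prod :=
    hsplit.eq_prod_roots_of_monic (hRm.map f)
  have hr4 : Multiset.card r = 4 := by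
    rw [hr, ← hsplit.natDegree_eq_card_roots, Polynomial.natDegree_map, hRd]
  have hχL : χ.map f = (r.map pairPoly).prod := by
    rw [← eq_prod_pairPoly (c7 := f (χ.coeff 7)) (c6 := f (χ.coeff 6)) (c5 := f (χ.coeff 5))
      (c4 := f (χ.coeff 4)) r (by rw [← hprod, hR]; simp [map_ofNat]) hr4]
    conv_lhs => rw [hexp]
    simp
  have hrσ : r.map σ = r := by
    have h := congrArg (Polynomial.map σ) hprod
    rw [Polynomial.map_map, show σ.comp f = f from RingHom.ext hσf, hprod,
      Polynomial.map_multiset_prod, Multiset.map_map] at h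
    have h' : (r.map fun y => X - C y) = r.map fun y => X - C y := rfl
    rw [show (Polynomial.map σ ∘ fun y => X - C y) = (fun y => X - C y) ∘ σ by funext y; simp,
      ← Multiset.map_map] at h
    have := congrArg Polynomial.roots h
    rwa [roots_multiset_prod_X_sub_C, roots_multiset_prod_X_sub_C, eq_comm] at this
  set Y := r.filter (fun y => y ≠ 0) with hYdef
  set k := r.count 0 with hk
  have hrY : r = Multiset.replicate k 0 + Y := by
    refine Multiset.ext.2 fun x => ?_
    rw [Multiset.count_add, Multiset.count_replicate, hYdef, Multiset.count_filter]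
    rcases eq_or_ne x 0 with rfl | hx
    · simp [hk]
    · simp [hx, Ne.symm hx]
  have hYσ : Y.map σ = Y := by
    have h := hrσ
    rw [hrY, Multiset.map_add, Multiset.map_replicate, map_zero] at h
    exact add_left_cancel h
  have h0 : (0 : L) ∉ Y := by simp [hYdef]
  obtain ⟨N, b, n, hn, hNb, -, hT, hcount, hkb⟩ := exists_exponent hσ hqe Fintype.card_pos Y hYσ k
    (by have := congrArg Multiset.card hrY; simp [hr4] at this; omega)
  set P := (Y.map pairPoly).prod with hP
  have hP0 : pairPoly (0 : L) = (X - 1) ^ 2 := by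
    unfold pairPoly
    rw [map_zero, zero_mul, sub_zero]
    linear_combination X * CharTwo.two_eq_zero (R := L[X])
  have hfac : χ.map f = (X - 1) ^ (2 * k) * P := by
    rw [hχL, hrY, Multiset.map_add, Multiset.prod_add, Multiset.map_replicate,
      Multiset.prod_replicate, hP0, ← pow_mul]
  obtain ⟨ψ, hψ⟩ : (X - 1 : F[X]) ^ (2 * k) ∣ χ := by
    refine (Polynomial.map_dvd_map f f.injective ((monic_X_sub_C 1).pow _)).1 ?_
    rw [hfac]
    simp
  have hψL : ψ.map f = P := by
    have h := hfac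
    rw [hψ, Polynomial.map_mul, Polynomial.map_pow, Polynomial.map_sub, map_X,
      Polynomial.map_one] at h
    exact mul_left_cancel₀ (pow_ne_zero _ (by rw [← C_1]; exact X_sub_C_ne_zero 1)) h
  have hψm : ψ.Monic := ((monic_X_sub_C (1 : F)).pow _).of_mul_monic_left (by
    rw [C_1, ← hψ]; exact A.charpoly_monic)
  refine ⟨k, ψ, N, b, n, hn, hψ, fun h => ?_, ?_, hNb, hkb⟩
  · have h1 : P.eval 1 = 0 := by rw [← hψL, eval_one_map, h, map_zero]
    rw [hP, eval_multiset_prod, Multiset.map_map, Multiset.prod_eq_zero_iff,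
      Multiset.mem_map] at h1
    obtain ⟨y, hy, hy1⟩ := h1
    have hy0 : y ≠ 0 := fun e => h0 (e ▸ hy)
    simp [pairPoly, CharTwo.sub_eq_add] at hy1
    exact hy0 (by linear_combination hy1 - CharTwo.two_eq_zero (R := L))
  · refine (Polynomial.map_dvd_map f f.injective hψm).1 ?_
    rw [hψL, Polynomial.map_pow, Polynomial.map_sum]
    simp only [Polynomial.map_pow, map_X]
    exact prod_pairPoly_dvd Y h0 hT hcount

theorem sum_range_two_pow [CharP F 2] (N b : ℕ) :
    (∑ i ∈ Finset.range (N * 2 ^ b), (X : F[X]) ^ i) =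
      (X - 1) ^ (2 ^ b - 1) * (∑ i ∈ Finset.range N, X ^ i) ^ 2 ^ b := by
  have h1 : (X - 1 : F[X]) ≠ 0 := by rw [← C_1]; exact X_sub_C_ne_zero 1
  refine mul_left_cancel₀ h1 ?_
  rw [mul_geom_sum, ← mul_assoc, ← pow_succ', Nat.sub_add_cancel Nat.one_le_two_pow, ← mul_pow,
    mul_geom_sum, sub_pow_expChar_pow, one_pow, ← pow_mul]

/-- Every element of the isometry group has one of the listed exponents. -/
theorem exists_target_pow_eq_one [Fintype F] [CharP F 2] {A S : Matrix ι ι F} (hS : IsUnit S.det)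
    (hA : Aᵀ * S * A = S) (hι : Fintype.card ι = 8) :
    ∃ n, Sp8Target (Fintype.card F) n ∧ A ^ n = 1 := by
  obtain ⟨k, ψ, N, b, n, hn, hχ, -, hdvd, ⟨c, hc⟩, hk⟩ := exists_factor hS hA hι
  refine ⟨n, hn, ?_⟩
  have h : A.charpoly ∣ X ^ (N * 2 ^ b) - 1 := by
    have e : (X : F[X]) ^ (N * 2 ^ b) - 1 =
        (X - 1) ^ 2 ^ b * (∑ i ∈ Finset.range N, X ^ i) ^ 2 ^ b := by
      rw [← mul_pow, mul_geom_sum, sub_pow_expChar_pow, one_pow, ← pow_mul]
    rw [hχ, e]
    exact mul_dvd_mul (pow_dvd_pow _ hk) hdvd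
  have h1 := aeval_eq_zero_of_dvd_aeval_eq_zero h (A.aeval_self_charpoly)
  simp [sub_eq_zero] at h1
  rw [hc, pow_mul A, h1, one_pow]

/-- If the fixed space has dimension at least two, `(X - 1) ^ m ψ` can be lowered. -/
theorem aeval_lower {A : Matrix ι ι F} {m : ℕ} {ψ : F[X]}
    (hχ : A.charpoly = (X - 1) ^ m * ψ) (h1 : ψ.eval 1 ≠ 0) (hm : m ≠ 0)
    (hd : 2 ≤ finrank F (LinearMap.ker (Matrix.toLin' (A - 1)))) :
    aeval A ((X - 1) ^ (m - 1) * ψ) = 0 := by
  set f : Module.End F (ι → F) := Matrix.toLin' (A - 1) with hf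
  have hcp : f.charpoly = X ^ m * ψ.comp (X + 1) := by
    rw [hf, Matrix.charpoly_toLin', show A - 1 = A - Matrix.scalar ι 1 by simp,
      Matrix.charpoly_sub_scalar, hχ]
    simp
  have hψ0 : (ψ.comp (X + 1)).coeff 0 ≠ 0 := by
    rw [coeff_zero_eq_eval_zero, eval_comp]; simpa using h1
  have hψne : ψ.comp (X + 1) ≠ 0 := fun h => hψ0 (by rw [h, coeff_zero])
  have htd : finrank F (f.maxGenEigenspace 0) = m := by
    rw [LinearMap.finrank_maxGenEigenspace_zero_eq, hcp,
      natTrailingDegree_mul (pow_ne_zero _ X_ne_zero) hψne, natTrailingDegree_X_pow,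
      natTrailingDegree_eq_zero_of_constantCoeff_ne_zero (by simpa using hψ0), add_zero]
  have hle : finrank F (LinearMap.ker (f ^ m)) ≤ m := by
    refine le_of_le_of_eq ?_ htd
    refine Submodule.finrank_mono fun x hx => ?_
    rw [Module.End.mem_maxGenEigenspace]
    exact ⟨m, by rw [zero_smul, sub_zero]; exact hx⟩
  have hstep : LinearMap.ker (f ^ (m - 1)) = LinearMap.ker (f ^ m) := by
    have hmono : ∀ j, LinearMap.ker (f ^ j) ≤ LinearMap.ker (f ^ (j + 1)) := fun j => by
      rw [pow_succ']; exact LinearMap.ker_le_ker_comp _ _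
    by_contra hne
    have hstrict : ∀ j, j < m → LinearMap.ker (f ^ j) ≠ LinearMap.ker (f ^ (j + 1)) := by
      intro j hj he
      refine hne ?_
      rw [show m - 1 = j + (m - 1 - j) by omega, ← Module.End.ker_pow_constant he,
        show m = j + (m - j) by omega, ← Module.End.ker_pow_constant he]
    have hlow : ∀ j, j < m → j + 2 ≤ finrank F (LinearMap.ker (f ^ (j + 1))) := by
      intro j
      induction j with
      | zero => intro _; rw [zero_add, zero_add, pow_one]; exact hd
      | succ j ih =>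
        intro hj
        have := Submodule.finrank_lt_finrank_of_lt ((hmono (j + 1)).lt_of_ne (hstrict _ hj))
        have := ih (by omega)
        omega
    have := hlow (m - 1) (by omega)
    rw [show m - 1 + 1 = m by omega] at this
    omega
  refine Matrix.toLin'.injective (LinearMap.ext fun v => ?_)
  have hev : ∀ P : F[X], Matrix.toLin' (aeval A P) = aeval (Matrix.toLin' A) P := fun P =>
    (Polynomial.aeval_algHom_apply (Matrix.toLinAlgEquiv' (R := F) (n := ι)).toAlgHom A P).symm
  have hpow : ∀ j, aeval (Matrix.toLin' A) ((X - 1 : F[X]) ^ j) = f ^ j := fun j => by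
    rw [map_pow, map_sub, aeval_X, map_one, hf, map_sub, Matrix.toLin'_one]
    rfl
  rw [hev, map_mul, hpow, map_zero, LinearMap.zero_apply, Module.End.mul_apply,
    ← LinearMap.mem_ker, hstep, LinearMap.mem_ker, ← hpow, ← Module.End.mul_apply, ← map_mul,
    ← hχ, ← hev, A.aeval_self_charpoly, map_zero, LinearMap.zero_apply]

/-- An element with fixed space of even dimension has a listed exponent killing all translates. -/
theorem exists_target_sum_eq_zero [Fintype F] [CharP F 2] {A S : Matrix ι ι F}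
    (hS : IsUnit S.det) (hA : Aᵀ * S * A = S) (hι : Fintype.card ι = 8)
    (hev : Even (finrank F (LinearMap.ker (Matrix.toLin' (A - 1))))) :
    ∃ n, Sp8Target (Fintype.card F) n ∧ A ^ n = 1 ∧ ∑ i ∈ Finset.range n, A ^ i = 0 := by
  obtain ⟨k, ψ, N, b, n, hn, hχ, hψ1, hdvd, ⟨c, hc⟩, hk⟩ := exists_factor hS hA hι
  have hann : aeval A ((X - 1) ^ (2 * k - 1) * ψ) = 0 := by
    rcases Nat.eq_zero_or_pos k with rfl | hk0
    · have := A.aeval_self_charpoly
      rwa [hχ] at this
    · refine aeval_lower hχ hψ1 (by omega) ?_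
      have hpos : LinearMap.ker (Matrix.toLin' (A - 1)) ≠ ⊥ := by
        intro hb
        have h0 : A.charpoly.eval 1 = 0 := by
          rw [hχ, eval_mul, eval_pow]
          simp [zero_pow (show 2 * k ≠ 0 by omega)]
        rw [Matrix.eval_charpoly, map_one] at h0
        obtain ⟨v, hv, hv'⟩ := Matrix.exists_mulVec_eq_zero_iff.2 h0
        refine hv (Submodule.eq_bot_iff _ |>.1 hb v ?_)
        rw [LinearMap.mem_ker, Matrix.toLin'_apply, ← neg_sub, Matrix.neg_mulVec, hv', neg_zero]
      have h1 : 1 ≤ finrank F (LinearMap.ker (Matrix.toLin' (A - 1))) :=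
        Submodule.one_le_finrank_iff.2 hpos
      obtain ⟨j, hj⟩ := hev
      omega
  have hsum : aeval A (∑ i ∈ Finset.range (N * 2 ^ b), (X : F[X]) ^ i) = 0 := by
    refine aeval_eq_zero_of_dvd_aeval_eq_zero ?_ hann
    rw [sum_range_two_pow]
    exact mul_dvd_mul (pow_dvd_pow _ (by omega)) hdvd
  simp only [map_sum, map_pow, aeval_X] at hsum
  have hm : A ^ (N * 2 ^ b) = 1 := sub_eq_zero.1 (by rw [← geom_sum_mul, hsum, zero_mul])
  refine ⟨n, hn, by rw [hc, pow_mul, hm, one_pow], ?_⟩
  rw [hc]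
  clear hc
  induction c with
  | zero => simp
  | succ c ih =>
    rw [Nat.mul_succ, Finset.sum_range_add, ih, zero_add]
    refine (Finset.sum_congr rfl fun i _ => ?_).trans hsum
    rw [pow_add, pow_mul, hm, one_pow, one_mul]

end Matrix

end CfsgLib.Spec83
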