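import Mathlib
import Cfsg.Prelude.Def_Classical
import Cfsg.Agent.Eq.Def_Classical
import Cfsg.Agent.Classical.Symp.Simple
import Cfsg.Agent.Classical.Orth.Omega
import Cfsg.Agent.Spec53.AffineSpectrum
import Cfsg.Agent.Spec83.O8Witness
import Cfsg.Agent.Spec83.Sp8Upper

/-!
`Sp(8, q)`, `q` even, has the same element orders as the orthogonal group of minus type in
dimension eight and as the affine group of its commutator subgroup.
-/

set_option autoImplicit false
set_option linter.unusedSectionVars false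

namespace CfsgLib.Spec83

open Module Matrix CfsgLib.OrthPrimeClasses CfsgLib.Classical.Orth CfsgLib.OrthGeo Cfsg.Geo

variable {F : Type*} [Field F] [CharP F 2]

/-- Coordinates of the orthogonal space. -/
local notation "ι₈" => (Fin 3 ⊕ Fin 3) ⊕ Fin 2

/-- Coordinates of the symplectic space. -/
local notation "σ₈" => Fin 4 ⊕ Fin 4

theorem sp8Target_pos {q n : ℕ} (hq : 1 < q) (h : Sp8Target q n) : 0 < n := by
  have h2 : 1 < q ^ 2 := Nat.one_lt_pow (by norm_num) hq
  have h3 : 1 < q ^ 3 := Nat.one_lt_pow (by norm_num) hq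
  have h4 : 1 < q ^ 4 := Nat.one_lt_pow (by norm_num) hq
  rcases h with rfl | rfl | rfl | rfl | rfl | rfl | rfl | rfl | rfl | rfl | rfl | rfl
  all_goals
    first
    | omega
    | exact Nat.mul_pos (by omega) (by omega)
    | exact Nat.mul_pos (by omega) (Nat.mul_pos (by omega) (by omega))

theorem coeff_ne_zero [Finite F] {a b : F}
    (han : ∀ z₁ z₂ : F, z₁ ^ 2 + a * z₁ * z₂ + b * z₂ ^ 2 = 0 → z₁ = 0 ∧ z₂ = 0) : a ≠ 0 := by
  intro ha
  apply four_mul_sub_sq_ne_zero han
  rw [ha]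
  linear_combination (2 * b) * CharTwo.two_eq_zero (R := F)

/-- The standard form of minus type is `hyp 3` and a plane `z₀² + z₀ z₁ + c z₁²`. -/
theorem exists_similar_standard [Finite F] {a b : F}
    (han : ∀ z₁ z₂ : F, z₁ ^ 2 + a * z₁ * z₂ + b * z₂ ^ 2 = 0 → z₁ = 0 ∧ z₂ = 0) :
    ∃ c : F, (∀ t : F, t ^ 2 + t + c ≠ 0) ∧
      Similar (osum (hyp (F := F) 3) (binForm 1 c)) (Cfsg.quadFormMinus 3 F a b) := by
  have ha := coeff_ne_zero han
  refine ⟨b / a ^ 2, fun t ht => ?_, ?_⟩
  · refine one_ne_zero (han (t * a) 1 ?_).2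
    field_simp at ht
    linear_combination ht
  · refine (Similar.sum_right ?_ _).trans (similar_minus 3 a b)
    exact (Similar.of_equiv
      { toFun := fun z : Fin 2 → F => ![z 0, a * z 1]
        map_add' := fun u v => funext fun i => by fin_cases i <;> simp; ring
        map_smul' := fun u v => funext fun i => by fin_cases i <;> simp; ring
        invFun := fun z => ![z 0, z 1 / a]
        left_inv := fun z => funext fun i => by fin_cases i <;> simp [ha]
        right_inv := fun z => funext fun i => by fin_cases i <;> simp [mul_div_cancel₀ _ ha] }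
      fun z => by simp [binForm]; field_simp).symm

/-- Coordinates in which the polar form is the standard alternating form. -/
theorem exists_symplectic_coords [Finite F] {a b : F}
    (han : ∀ z₁ z₂ : F, z₁ ^ 2 + a * z₁ * z₂ + b * z₂ ^ 2 = 0 → z₁ = 0 ∧ z₂ = 0) :
    ∃ e : (ι₈ → F) ≃ₗ[F] (σ₈ → F), ∀ f : Module.End F (ι₈ → F),
      (∀ v, Cfsg.quadFormMinus 3 F a b (f v) = Cfsg.quadFormMinus 3 F a b v) →
      LinearMap.toMatrix' (e.conj f) ∈ Matrix.symplecticGroup (Fin 4) F := by
  have ha := coeff_ne_zero han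
  let e : (ι₈ → F) ≃ₗ[F] (σ₈ → F) :=
    { toFun := fun v => Sum.elim
        ![v (.inl (.inl 0)), v (.inl (.inl 1)), v (.inl (.inl 2)), v (.inr 0)]
        ![v (.inl (.inr 0)), v (.inl (.inr 1)), v (.inl (.inr 2)), a * v (.inr 1)]
      map_add' := fun u v => funext fun i => by
        rcases i with i | i <;> fin_cases i <;> simp [mul_add]
      map_smul' := fun t u => funext fun i => by
        rcases i with i | i <;> fin_cases i <;> simp [mul_left_comm]
      invFun := fun u => Sum.elim (Sum.elim ![u (.inl 0), u (.inl 1), u (.inl 2)]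
        ![u (.inr 0), u (.inr 1), u (.inr 2)]) ![u (.inl 3), u (.inr 3) / a]
      left_inv := fun v => funext fun i => by
        rcases i with (i | i) | i <;> fin_cases i <;> simp [ha]
      right_inv := fun u => funext fun i => by
        rcases i with i | i <;> fin_cases i <;> simp [mul_div_cancel₀ _ ha] }
  refine ⟨e, fun f hf => ?_⟩
  have hJ : ∀ v w : ι₈ → F, e v ⬝ᵥ (Matrix.J (Fin 4) F *ᵥ e w) =
      QuadraticMap.polar (Cfsg.quadFormMinus 3 F a b) v w := by
    intro v w
    simp [Matrix.J, Matrix.fromBlocks_mulVec, dotProduct, e, QuadraticMap.polar,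
      Cfsg.quadFormMinus, Fin.sum_univ_four, Fin.sum_univ_three, Matrix.mulVec,
      Matrix.one_apply, CharTwo.neg_eq]
    linear_combination (-(v (.inr 0) * w (.inr 0) + b * v (.inr 1) * w (.inr 1))) *
      CharTwo.two_eq_zero (R := F)
  set A := LinearMap.toMatrix' (e.conj f) with hA
  rw [SymplecticGroup.mem_iff']
  ext i j
  have h1 : ∀ u w : σ₈ → F, (A *ᵥ u) ⬝ᵥ (Matrix.J (Fin 4) F *ᵥ (A *ᵥ w)) =
      u ⬝ᵥ (Matrix.J (Fin 4) F *ᵥ w) := by
    intro u w
    obtain ⟨v, rfl⟩ := e.surjective u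
    obtain ⟨x, rfl⟩ := e.surjective w
    rw [hA, ← Matrix.toLin'_apply, ← Matrix.toLin'_apply (LinearMap.toMatrix' _) (e x),
      Matrix.toLin'_toMatrix', LinearEquiv.conj_apply_apply, LinearEquiv.conj_apply_apply,
      e.symm_apply_apply, e.symm_apply_apply, hJ, hJ]
    simp only [QuadraticMap.polar, ← map_add, hf]
  have h := h1 (Pi.single i 1) (Pi.single j 1)
  rw [single_dotProduct, one_mul, Matrix.mulVec_mulVec, Matrix.dotProduct_mulVec,
    Matrix.mulVec_single_one, Matrix.mulVec_single_one] at h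
  have e1 : (Aᵀ * Matrix.J (Fin 4) F * A) i j =
      (A.col i ᵥ* (Matrix.J (Fin 4) F * A)) j := by
    rw [Matrix.mul_assoc]
    rfl
  rw [e1]
  simpa [dotProduct, Pi.single_apply, Matrix.col, Matrix.transpose_apply] using h

variable [Fintype F] {a b : F}
  (han : ∀ z₁ z₂ : F, z₁ ^ 2 + a * z₁ * z₂ + b * z₂ ^ 2 = 0 → z₁ = 0 ∧ z₂ = 0)
include han

theorem orth_upper (f : Module.End F (ι₈ → F))
    (hf : ∀ v, Cfsg.quadFormMinus 3 F a b (f v) = Cfsg.quadFormMinus 3 F a b v)
    (hev : Even (finrank F (LinearMap.ker (f - 1)))) :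
    ∃ n, Sp8Target (Fintype.card F) n ∧ f ^ n = 1 ∧ ∑ i ∈ Finset.range n, f ^ i = 0 := by
  obtain ⟨e, he⟩ := exists_symplectic_coords han
  have hA := SymplecticGroup.mem_iff'.1 (he f hf)
  obtain ⟨n, hn, h1, h2⟩ := exists_target_sum_eq_zero (A := LinearMap.toMatrix' (e.conj f))
    (Matrix.isUnit_det_J (Fin 4) F) hA (by simp) (by
      rw [map_sub, Matrix.toLin'_toMatrix', Matrix.toLin'_one, ← Module.End.one_eq_id,
        ker_conj_sub_one, LinearEquiv.finrank_map_eq]
      exact hev)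
  set φ := (e.conjAlgEquiv F).trans LinearMap.toMatrixAlgEquiv' with hφ
  have hφf : φ f = LinearMap.toMatrix' (e.conj f) := rfl
  refine ⟨n, hn, φ.injective ?_, φ.injective ?_⟩
  · rw [map_pow, map_one, hφf, h1]
  · rw [map_sum, map_zero]
    simp only [map_pow, hφf]
    exact h2

/-- An isometry of finite order as an element of the group. -/
theorem exists_mem_of_end (f : Module.End F (ι₈ → F))
    (hf : ∀ v, Cfsg.quadFormMinus 3 F a b (f v) = Cfsg.quadFormMinus 3 F a b v)
    {n : ℕ} (hn : 0 < n) (ho : orderOf f = n) :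
    ∃ g : Cfsg.isometryGroup F (Cfsg.quadFormMinus 3 F a b),
      Matrix.toLin' ((g : GL ι₈ F) : Matrix ι₈ ι₈ F) = f ∧ orderOf g = n := by
  set A := LinearMap.toMatrixAlgEquiv' f with hA
  have hoA : orderOf A = n := by
    rw [hA, ← ho]
    exact MulEquiv.orderOf_eq (LinearMap.toMatrixAlgEquiv' (R := F) (n := ι₈)).toMulEquiv f
  have hu : IsUnit A := IsUnit.of_pow_eq_one (hoA ▸ pow_orderOf_eq_one A) hn.ne'
  have hlin : Matrix.toLin' A = f := Matrix.toLin'_toMatrix' f
  refine ⟨⟨hu.unit, mem_isometryGroup.2 fun x => ?_⟩, hlin, ?_⟩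
  · show Cfsg.quadFormMinus 3 F a b (A *ᵥ x) = _
    rw [← Matrix.toLin'_apply, hlin, hf]
  · rw [← Subgroup.orderOf_coe, ← orderOf_units]
    exact hoA

theorem isometry_end (g : Cfsg.isometryGroup F (Cfsg.quadFormMinus 3 F a b)) (v : ι₈ → F) :
    Cfsg.quadFormMinus 3 F a b (Matrix.toLin' ((g : GL ι₈ F) : Matrix ι₈ ι₈ F) v) =
      Cfsg.quadFormMinus 3 F a b v := by
  rw [Matrix.toLin'_apply]
  exact mem_isometryGroup.1 g.2 v

/-- Membership of the commutator subgroup through the fixed space. -/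
theorem mem_omega_iff_even_ker (g : Cfsg.isometryGroup F (Cfsg.quadFormMinus 3 F a b)) :
    g ∈ Cfsg.Omega F (Cfsg.quadFormMinus 3 F a b) ↔
      Even (finrank F (LinearMap.ker (Matrix.toLin' ((g : GL ι₈ F) : Matrix ι₈ ι₈ F) - 1))) := by
  rw [mem_omega_iff_even (isNondegQF_quadFormMinus 3 a b han) CharTwo.two_eq_zero
    (fun h => by simp at h) g]
  have h := finrank_residual_add (g : GL ι₈ F)
  have hk : fixedSpace (g : GL ι₈ F) =
      LinearMap.ker (Matrix.toLin' ((g : GL ι₈ F) : Matrix ι₈ ι₈ F) - 1) := by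
    ext x
    simp [fixedSpace, sub_eq_zero, eq_comm, Matrix.sub_mulVec]
  rw [hk, show Fintype.card ι₈ = 8 by simp] at h
  have h8 : Even 8 := by decide
  rw [← h, Nat.even_add] at h8
  exact h8

theorem range_orderOf_isometryGroup :
    Set.range (orderOf : ↥(Cfsg.isometryGroup F (Cfsg.quadFormMinus 3 F a b)) → ℕ) =
      sp8Spec (Fintype.card F) := by
  haveI : Finite ↥(Cfsg.isometryGroup F (Cfsg.quadFormMinus 3 F a b)) := inferInstance
  apply subset_antisymm
  · rintro _ ⟨g, rfl⟩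
    obtain ⟨e, he⟩ := exists_symplectic_coords han
    have hA := SymplecticGroup.mem_iff'.1 (he _ (isometry_end han g))
    obtain ⟨n, hn, h1⟩ := exists_target_pow_eq_one (Matrix.isUnit_det_J (Fin 4) F) hA (by simp)
    refine ⟨n, hn, orderOf_dvd_of_pow_eq_one (Subtype.ext (Units.ext ?_))⟩
    set φ := (LinearMap.toMatrixAlgEquiv'.symm).trans
      ((e.conjAlgEquiv F).trans LinearMap.toMatrixAlgEquiv') with hφ
    refine φ.injective ?_
    rw [SubgroupClass.coe_pow, Units.val_pow_eq_pow_val, map_pow, OneMemClass.coe_one,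
      Units.val_one, map_one]
    exact h1
  · rintro d ⟨n, hn, hd⟩
    obtain ⟨c, hc, hsim⟩ := exists_similar_standard han
    obtain ⟨s, hs⟩ := exists_has hc hn
    obtain ⟨f, hf, ho, -⟩ := hs.map hsim
    obtain ⟨g, -, hg⟩ := exists_mem_of_end han f hf (sp8Target_pos Fintype.one_lt_card hn) ho
    exact ⟨g ^ (orderOf g / d), orderOf_pow_orderOf_div (orderOf_pos g).ne' (hg ▸ hd)⟩

omit han in
theorem range_orderOf_psp_eight :
    Set.range (orderOf : Cfsg.PSp 4 F → ℕ) = sp8Spec (Fintype.card F) := by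
  have hz : Subgroup.center (Matrix.symplecticGroup (Fin 4) F) = ⊥ := by
    refine (Subgroup.eq_bot_iff_forall _).2 fun g hg => Subtype.ext ?_
    rcases CfsgLib.Classical.Symp.mem_center_iff.1 hg with h | h
    · exact h
    · rw [h]
      ext i j
      rw [Matrix.neg_apply, CharTwo.neg_eq]
      rfl
  rw [← Spec53.range_orderOf_congr
    ((QuotientGroup.quotientMulEquivOfEq hz).trans QuotientGroup.quotientBot)]
  apply subset_antisymm
  · rintro _ ⟨g, rfl⟩
    obtain ⟨n, hn, h1⟩ := exists_target_pow_eq_one (Matrix.isUnit_det_J (Fin 4) F)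
      (SymplecticGroup.mem_iff'.1 g.2) (by simp)
    exact ⟨n, hn, orderOf_dvd_of_pow_eq_one (Subtype.ext h1)⟩
  · rintro d ⟨n, hn, hd⟩
    obtain ⟨a, b, han⟩ := exists_aniso (F := F)
    obtain ⟨e, he⟩ := exists_symplectic_coords han
    obtain ⟨c, hc, hsim⟩ := exists_similar_standard han
    obtain ⟨s, hs⟩ := exists_has hc hn
    obtain ⟨f, hf, ho, -⟩ := hs.map hsim
    let g : Matrix.symplecticGroup (Fin 4) F := ⟨_, he f hf⟩
    have hg : orderOf g = n := by
      rw [← orderOf_submonoid g, ← ho]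
      exact MulEquiv.orderOf_eq
        ((e.conjAlgEquiv F).trans LinearMap.toMatrixAlgEquiv').toMulEquiv f
    exact ⟨g ^ (orderOf g / d), orderOf_pow_orderOf_div (orderOf_pos g).ne' (hg ▸ hd)⟩

theorem exists_large_isospectral_sp8 (N : ℕ) :
    ∃ (H : Type) (_ : Group H) (_ : Fintype H), N < Fintype.card H ∧
      Set.range (orderOf : H → ℕ) = sp8Spec (Fintype.card F) := by
  set Q := Cfsg.quadFormMinus 3 F a b
  set G := Cfsg.isometryGroup F Q
  let m : ↥(Cfsg.Omega F Q) → Matrix ι₈ ι₈ F :=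
    fun x => ((x : G) : GL ι₈ F)
  letI : SMul ↥(Cfsg.Omega F Q) (ι₈ → F) := ⟨fun x v => m x *ᵥ v⟩
  letI : DistribMulAction ↥(Cfsg.Omega F Q) (ι₈ → F) :=
    { one_smul := fun v => Matrix.one_mulVec v
      mul_smul := fun x y v => (Matrix.mulVec_mulVec v (m x) (m y)).symm
      smul_zero := fun x => Matrix.mulVec_zero (m x)
      smul_add := fun x u v => Matrix.mulVec_add (m x) u v }
  have hsmul : ∀ (x : ↥(Cfsg.Omega F Q)) (v : ι₈ → F), x • v = m x *ᵥ v := fun x v => rfl
  let μ : ↥(Cfsg.Omega F Q) →* Module.End F (ι₈ → F) :=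
    { toFun := fun x => Matrix.toLin' (m x)
      map_one' := Matrix.toLin'_one
      map_mul' := fun x y => Matrix.toLin'_mul (m x) (m y) }
  have hμ : Function.Injective μ := fun x y h =>
    Subtype.ext (Subtype.ext (Units.ext (Matrix.toLin'.injective h)))
  have hsum : ∀ (x : ↥(Cfsg.Omega F Q)) (k : ℕ) (v : ι₈ → F),
      ∑ i ∈ Finset.range k, x ^ i • v = (∑ i ∈ Finset.range k, μ x ^ i) v := by
    intro x k v
    rw [LinearMap.sum_apply]
    refine Finset.sum_congr rfl fun i _ => ?_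
    rw [← map_pow]
    rfl
  obtain ⟨c, hc, hsim⟩ := exists_similar_standard han
  haveI : Nontrivial (ι₈ → F) := inferInstance
  have := Spec53.exists_large_of_aff (L := ↥(Cfsg.Omega F Q)) (V := ι₈ → F)
    {n | Sp8Target (Fintype.card F) n} ?_ ?_ N
  · exact this
  · intro x
    obtain ⟨n, hn, h1, h2⟩ := orth_upper han (μ x) (isometry_end han (x : G))
      ((mem_omega_iff_even_ker han (x : G)).1 x.2)
    refine ⟨n, hn, hμ (by rw [map_pow, h1, map_one]), fun v => ?_⟩
    rw [hsum, h2, LinearMap.zero_apply]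
  · intro n hn
    have hpos := sp8Target_pos (Fintype.one_lt_card (α := F)) hn
    have get : ∀ (k : ℕ) (f : Module.End F (ι₈ → F)), 0 < k → (∀ v, Q (f v) = Q v) →
        orderOf f = k → finrank F (LinearMap.ker (f - 1)) % 2 = 0 % 2 →
        ∃ x : ↥(Cfsg.Omega F Q), μ x = f ∧ orderOf x = k := by
      intro k f hk hf ho hp
      obtain ⟨g, hg, hgo⟩ := exists_mem_of_end han f hf hk ho
      refine ⟨⟨g, (mem_omega_iff_even_ker han g).2 ?_⟩, hg, ?_⟩
      · rw [hg, Nat.even_iff]; simpa using hp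
      · rw [← Subgroup.orderOf_coe]; exact hgo
    rcases exists_aff hc hn with h | ⟨k, rfl, h⟩
    · obtain ⟨f, hf, ho, hp⟩ := h.map hsim
      obtain ⟨x, -, hx⟩ := get n f hpos hf ho hp
      exact ⟨_, (Spec53.orderOf_affMk_zero (V := ι₈ → F) x).trans hx⟩
    · obtain ⟨f, v, hf, ho, hp, hv⟩ := h.map hsim
      obtain ⟨x, hxf, hx⟩ := get k f (by omega) hf ho hp
      refine ⟨Spec53.affMk v x, ?_⟩
      have hxk : x ^ k = 1 := hx ▸ pow_orderOf_eq_one x
      have hw : ∑ i ∈ Finset.range k, x ^ i • v ≠ 0 := by rw [hsum, hxf]; exact hv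
      have hkills : Spec53.Kills (ι₈ → F) x (k * 2) :=
        Spec53.kills_mul_of_pow (fun u => by
          rw [← Nat.cast_smul_eq_nsmul F]; simp [CharTwo.two_eq_zero]) hxk
      have hd := Spec53.orderOf_dvd_of_kills hkills v
      have hk' : k ∣ orderOf (Spec53.affMk v x) := by
        rw [← hx]
        exact orderOf_map_dvd (SemidirectProduct.rightHom :
          Spec53.Aff ↥(Cfsg.Omega F Q) (ι₈ → F) →* ↥(Cfsg.Omega F Q)) (Spec53.affMk v x)
      obtain ⟨j, hj⟩ := hk'
      rw [hj] at hd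
      rcases (Nat.dvd_prime Nat.prime_two).1 (Nat.dvd_of_mul_dvd_mul_left (by omega) hd) with
        rfl | rfl
      · exfalso
        have h1 := pow_orderOf_eq_one (Spec53.affMk v x)
        rw [hj, mul_one, Spec53.affMk_pow, Spec53.affMk_eq_one] at h1
        exact hw h1.1
      · rw [hj, mul_comm]

end CfsgLib.Spec83
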